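import Cfsg.Agent.Lib.J4Cent18.Extra
import Cfsg.Prelude.Def_Sporadic
import Cfsg.Prelude.Def_Transfer

/-!
# The structure of an involution centraliser from a permutation representation

`C` maps to a permutation group with a simple subgroup of index two; the kernel is an extraspecial
group extended by an element of order three.
-/

set_option autoImplicit false

namespace Cfsg.Agent.Lib.J4Cent18

open Subgroup

/-- The structure of `C` (used with `ν = 12`). -/
theorem structure_of_action {G : Type} [Group G] [Finite G] {C : Subgroup G} {m : ℕ}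
    (hC : Nat.card C ≤ 2 * 443520 * (3 * 2 ^ 13)) (φ : ↥C →* Equiv.Perm (Fin m))
    {A S : Subgroup (Equiv.Perm (Fin m))} (hA : A ≤ φ.range) (hSA : S ≤ A)
    (hAc : Nat.card A = 887040) (hSc : Nat.card S = 443520) (hSs : IsSimpleGroup S)
    {z a : ↥C} {q : Fin 12 → ↥C} {B Binv : Fin 12 → Fin 12 → ZMod 2} (hq : Gens z q B Binv)
    (hzK : z ∈ φ.ker) (hqK : ∀ i, q i ∈ φ.ker) (haK : a ∈ φ.ker) (ha3 : a ^ 3 = 1) (ha1 : a ≠ 1)
    (hanorm : ∀ i, a * q i * a⁻¹ ∈ gensGroup z q) (haz : a * z * a⁻¹ ∈ gensGroup z q) :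
    ∃ (Q N M : Subgroup ↥C), Q.Normal ∧ N.Normal ∧ Q ≤ N ∧ N ≤ M ∧ Nat.card Q = 2 ^ 13 ∧
      Cfsg.IsExtraspecial 2 Q ∧ Nat.card N = 3 * 2 ^ 13 ∧ M.index = 2 ∧
      ∃ (_ : (N.subgroupOf M).Normal), Cfsg.IsM22 (M ⧸ N.subgroupOf M) := by
  classical
  set Q := gensGroup z q with hQ
  set K := φ.ker with hK
  obtain ⟨hQc, hQe⟩ := hq.card_and_extraspecial (by norm_num)
  have hQK : Q ≤ K := by
    rw [hQ, gensGroup, closure_le]
    rintro x (rfl | ⟨i, rfl⟩)
    exacts [hzK, hqK i]
  have ha3' : orderOf a = 3 := orderOf_eq_prime ha3 ha1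
  have h3K : 3 ∣ Nat.card K := by
    have h := orderOf_dvd_natCard (⟨a, haK⟩ : K)
    rwa [orderOf_mk, ha3'] at h
  have hQdvd : 2 ^ 13 ∣ Nat.card K := by
    have h := card_dvd_of_le hQK
    rwa [hQc] at h
  have hdvd : 3 * 2 ^ 13 ∣ Nat.card K :=
    Nat.Coprime.mul_dvd_of_dvd_of_dvd (by norm_num) h3K hQdvd
  have hKlo : 3 * 2 ^ 13 ≤ Nat.card K := Nat.le_of_dvd Nat.card_pos hdvd
  have hidx : Nat.card K * Nat.card φ.range = Nat.card C := by
    rw [← K.card_mul_index, hK, Subgroup.index_ker]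
  have hRlo : 887040 ≤ Nat.card φ.range := hAc ▸ Nat.le_of_dvd Nat.card_pos (card_dvd_of_le hA)
  have hKc : Nat.card K = 3 * 2 ^ 13 := by
    refine le_antisymm ?_ hKlo
    by_contra hlt
    have : (3 * 2 ^ 13 + 1) * 887040 ≤ Nat.card K * Nat.card φ.range :=
      Nat.mul_le_mul (Nat.lt_of_not_le hlt) hRlo
    omega
  have hRc : Nat.card φ.range = 887040 := by
    refine le_antisymm ?_ hRlo
    by_contra hlt
    have : Nat.card K * (887040 + 1) ≤ Nat.card K * Nat.card φ.range :=
      Nat.mul_le_mul_left _ (Nat.lt_of_not_le hlt)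
    rw [hidx, hKc] at this
    omega
  have hAR : A = φ.range := eq_of_le_of_card_ge hA (le_of_eq (hRc.trans hAc.symm))
  -- the kernel is `Q` extended by `a`
  have hanorm' : ∀ x ∈ Q, a * x * a⁻¹ ∈ Q := by
    intro x hx
    have hle : Q ≤ Q.comap (MulAut.conj a).toMonoidHom := by
      rw [hQ, gensGroup, closure_le]
      rintro y (rfl | ⟨i, rfl⟩)
      exacts [haz, hanorm i]
    exact hle hx
  have hQN : (Q.subgroupOf K).Normal := by
    refine ⟨?_⟩
    rintro ⟨x, hxK⟩ hx ⟨k, hk⟩
    have hx' : x ∈ Q := hx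
    show k * x * k⁻¹ ∈ Q
    have hgen : K ≤ Subgroup.normalizer (Q : Set ↥C) := by
      have hsup : Q ⊔ zpowers a = K := by
        refine eq_of_le_of_card_ge (sup_le hQK (zpowers_le.2 haK)) ?_
        rw [hKc]
        refine Nat.le_of_dvd Nat.card_pos (Nat.Coprime.mul_dvd_of_dvd_of_dvd (by norm_num) ?_ ?_)
        · have h := card_dvd_of_le (le_sup_right : zpowers a ≤ Q ⊔ zpowers a)
          rwa [Nat.card_zpowers, ha3'] at h
        · have h := card_dvd_of_le (le_sup_left : Q ≤ Q ⊔ zpowers a)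
          rwa [hQc] at h
      rw [← hsup]
      refine sup_le Q.le_normalizer (zpowers_le.2 ?_)
      refine Subgroup.mem_normalizer_iff.2 fun y => ⟨hanorm' y, fun hy => ?_⟩
      have h2 := hanorm' _ (hanorm' _ hy)
      have e : y = a * (a * (a * y * a⁻¹) * a⁻¹) * a⁻¹ := by
        have e3 : a ^ 3 * y * (a ^ 3)⁻¹ = y := by rw [ha3]; simp
        conv_lhs => rw [← e3]
        simp only [pow_succ, pow_zero, one_mul, mul_inv_rev]
        group
      rwa [e]
    exact (Subgroup.mem_normalizer_iff.1 (hgen hk) x).1 hx'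
  have hQnormal : Q.Normal := by
    refine ⟨fun x hx c => ?_⟩
    -- conjugates of `Q` lie in `K` and have index three, so they lie in `Q`
    have hxK : x ∈ K := hQK hx
    have hcK : c * x * c⁻¹ ∈ K := (MonoidHom.normal_ker φ).conj_mem x hxK c
    have hcard : Nat.card (Q.subgroupOf K) = 2 ^ 13 := by
      rw [Nat.card_congr (subgroupOfEquivOfLe hQK).toEquiv, hQc]
    have hindex : (Q.subgroupOf K).index = 3 := by
      have := (Q.subgroupOf K).card_mul_index
      rw [hcard, hKc] at this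
      omega
    have hpow : (c * x * c⁻¹) ^ (2 ^ 13) = 1 := by
      rw [conj_pow]
      have h1 : (⟨x, hx⟩ : Q) ^ Nat.card Q = 1 := pow_card_eq_one'
      have h2 : x ^ (2 ^ 13) = 1 := by
        rw [← hQc]; exact congrArg Subtype.val h1
      rw [h2]; simp
    set y : K := ⟨c * x * c⁻¹, hcK⟩ with hy
    haveI := hQN
    have h3 : (QuotientGroup.mk' (Q.subgroupOf K) y) ^ 3 = 1 := by
      rw [← hindex, Subgroup.index_eq_card]; exact pow_card_eq_one'
    have h2 : (QuotientGroup.mk' (Q.subgroupOf K) y) ^ (2 ^ 13) = 1 := by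
      rw [← map_pow, show y ^ (2 ^ 13) = 1 from Subtype.ext hpow, map_one]
    have h1 := pow_gcd_eq_one.2 (And.intro h3 h2)
    rw [show Nat.gcd 3 (2 ^ 13) = 1 by norm_num, pow_one, QuotientGroup.mk'_apply,
      QuotientGroup.eq_one_iff] at h1
    exact h1
  -- the middle subgroup
  let M := S.comap φ
  have hKM : K ≤ M := fun k hk => by
    show φ k ∈ S
    rw [MonoidHom.mem_ker.1 hk]; exact one_mem _
  have hSR : S ≤ φ.range := hSA.trans hA
  have hMi : M.index = 2 := by
    rw [index_comap, ← hAR]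
    have h := card_mul_index (S.subgroupOf A)
    rw [Nat.card_congr (subgroupOfEquivOfLe hSA).toEquiv, hSc, hAc] at h
    show (S.subgroupOf A).index = 2
    omega
  have hN : (K.subgroupOf M).Normal := (MonoidHom.normal_ker φ).subgroupOf M
  refine ⟨Q, K, M, hQnormal, MonoidHom.normal_ker φ, hQK, hKM, hQc, hQe, hKc, hMi, hN, ?_, ?_⟩
  all_goals
    have e : M ⧸ K.subgroupOf M ≃* S := by
      let f : ↥M →* ↥S := (φ.comp M.subtype).codRestrict S fun x => x.2
      have hf : Function.Surjective f := fun s => by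
        obtain ⟨c, hc⟩ := hSR s.2
        exact ⟨⟨c, show φ c ∈ S from hc ▸ s.2⟩, Subtype.ext hc⟩
      have hker : f.ker = K.subgroupOf M := by
        ext x
        simp only [MonoidHom.mem_ker, mem_subgroupOf, f, hK]
        exact Subtype.ext_iff
      exact (QuotientGroup.quotientMulEquivOfEq hker.symm).trans
        (QuotientGroup.quotientKerEquivOfSurjective f hf)
  · exact e.isSimpleGroup
  · rw [Nat.card_congr e.toEquiv, hSc]

end Cfsg.Agent.Lib.J4Cent18
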