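import Mathlib

/-!
# Products of commuting involutions over bit vectors
-/

set_option autoImplicit false

namespace Cfsg.Agent.Lib.J4Cent18

variable {G : Type*} [Group G]

/-- `e i` if bit `i` of `c` is set. -/
def pick (e : ℕ → G) (c i : ℕ) : G := if c.testBit i then e i else 1

/-- The product of the `e i` over the first `k` bits of `c`. -/
def evBits (e : ℕ → G) : ℕ → ℕ → G
  | 0, _ => 1
  | k + 1, c => evBits e k c * pick e c k

variable {e : ℕ → G} {N : ℕ}

theorem evBits_comm (hc : ∀ i j, i < N → j < N → Commute (e i) (e j)) :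
    ∀ k, k ≤ N → ∀ (c i : ℕ), i < N → Commute (evBits e k c) (e i)
  | 0, _, _, _, _ => Commute.one_left _
  | k + 1, hk, c, i, hi => by
    refine (evBits_comm hc k (by omega) c i hi).mul_left ?_
    unfold pick
    split
    · exact hc k i (by omega) hi
    · exact Commute.one_left _

theorem pick_xor (hs : ∀ i, i < N → e i * e i = 1) {i : ℕ} (hi : i < N) (a b : ℕ) :
    pick e (a ^^^ b) i = pick e a i * pick e b i := by
  unfold pick
  rw [Nat.testBit_xor]
  cases a.testBit i <;> cases b.testBit i <;> simp [hs i hi]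

/-- Exclusive or becomes multiplication. -/
theorem evBits_xor (hs : ∀ i, i < N → e i * e i = 1)
    (hc : ∀ i j, i < N → j < N → Commute (e i) (e j)) :
    ∀ k, k ≤ N → ∀ a b : ℕ, evBits e k (a ^^^ b) = evBits e k a * evBits e k b
  | 0, _, _, _ => (one_mul 1).symm
  | k + 1, hk, a, b => by
    have hcm : Commute (evBits e k b) (pick e a k) := by
      unfold pick
      split
      · exact evBits_comm hc k (by omega) b k (by omega)
      · exact Commute.one_right _
    show evBits e k (a ^^^ b) * _ = evBits e k a * pick e a k * (evBits e k b * pick e b k)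
    rw [evBits_xor hs hc k (by omega), pick_xor hs (by omega), mul_assoc (evBits e k a),
      ← mul_assoc (evBits e k b), hcm.eq, mul_assoc (pick e a k), ← mul_assoc (evBits e k a)]

theorem evBits_zero : ∀ k, evBits e k 0 = 1
  | 0 => rfl
  | k + 1 => by
    show evBits e k 0 * _ = 1
    rw [evBits_zero k, pick, Nat.zero_testBit]
    simp

/-- The linear map with rows `L` on the first `k` bits. -/
def linBits (L : List ℕ) : ℕ → ℕ → ℕ
  | 0, _ => 0
  | k + 1, c => linBits L k c ^^^ (if c.testBit k then L.getD k 0 else 0)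

/-- Conjugation acts by the linear map. -/
theorem evBits_conj (hs : ∀ i, i < N → e i * e i = 1)
    (hc : ∀ i j, i < N → j < N → Commute (e i) (e j)) {g : G} {L : List ℕ}
    (hg : ∀ i, i < N → g⁻¹ * e i * g = evBits e N (L.getD i 0)) :
    ∀ k, k ≤ N → ∀ c : ℕ, g⁻¹ * evBits e k c * g = evBits e N (linBits L k c)
  | 0, _, c => by
    show g⁻¹ * 1 * g = evBits e N 0
    rw [evBits_zero, mul_one, inv_mul_cancel]
  | k + 1, hk, c => by
    show g⁻¹ * (evBits e k c * pick e c k) * g = evBits e N (linBits L k c ^^^ _)
    rw [evBits_xor hs hc N le_rfl, ← evBits_conj hs hc hg k (by omega) c]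
    unfold pick
    split
    · rw [← hg k (by omega)]; group
    · rw [evBits_zero]; group

theorem evBits_mem {S : Subgroup G} (hm : ∀ i, i < N → e i ∈ S) :
    ∀ k, k ≤ N → ∀ c : ℕ, evBits e k c ∈ S
  | 0, _, _ => S.one_mem
  | k + 1, hk, c => by
    refine S.mul_mem (evBits_mem hm k (by omega) c) ?_
    unfold pick
    split
    · exact hm k (by omega)
    · exact S.one_mem

end Cfsg.Agent.Lib.J4Cent18
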