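import Mathlib

/-!
# A bound for the centraliser of an element of a subgroup through double cosets
-/

set_option autoImplicit false

namespace Cfsg.Agent.Lib.J4Cent18

open Subgroup

variable {G : Type*} [Group G]

/-- The elements of `H` carried into `H` by `w`. -/
def meetConj (H : Subgroup G) (w : G) : Subgroup G :=
  H ⊓ H.comap (MulAut.conj w).toMonoidHom

theorem mem_meetConj {H : Subgroup G} {w s : G} :
    s ∈ meetConj H w ↔ s ∈ H ∧ w * s * w⁻¹ ∈ H := Iff.rfl

/-- A map with all fibres at most (or at least) `k`. -/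
theorem card_mul_le_of_fibre {A B : Type*} [Fintype A] [DecidableEq B] (s : Finset A) (f : A → B)
    {k : ℕ} (hk : ∀ b ∈ s.image f, k ≤ (s.filter fun a => f a = b).card) :
    (s.image f).card * k ≤ s.card := by
  rw [Finset.card_eq_sum_card_image f s, ← smul_eq_mul, ← Finset.sum_const]
  exact Finset.sum_le_sum hk

variable [Finite G]

/-- The centraliser of `z` against the conjugates of `z` in `H` carried into conjugates by the
double coset representatives. -/
theorem centralizer_card_mul_le (H : Subgroup G) {z : G} {ι : Type*} [Fintype ι]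
    (w : ι → G) (n : ι → ℕ) (good : ι → Finset G)
    (hcover : ∀ g, ∃ j, ∃ a ∈ H, ∃ b ∈ H, g = a * w j * b)
    (hstab : ∀ j, Nat.card H ≤ n j * Nat.card (meetConj H (w j)))
    (hgood : ∀ j, ∀ h ∈ H, ∀ k ∈ H,
      w j * (h * z * h⁻¹) * (w j)⁻¹ = k * z * k⁻¹ → h * z * h⁻¹ ∈ good j) :
    Nat.card H * Nat.card (centralizer ({z} : Set G)) ≤
      Nat.card ↥(H ⊓ centralizer ({z} : Set G)) * Nat.card ↥(H ⊓ centralizer ({z} : Set G)) *
        ∑ j, n j * (good j).card := by
  classical
  cases nonempty_fintype G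
  set C := centralizer ({z} : Set G)
  set D := H ⊓ C with hD
  set T : Finset G := Finset.univ.filter fun g => ∃ h ∈ H, g * z * g⁻¹ = h * z * h⁻¹ with hT
  have hc : ∀ c, c ∈ C ↔ c * z * c⁻¹ = z := fun c => by
    rw [mem_centralizer_singleton_iff, mul_inv_eq_iff_eq_mul]
    try exact eq_comm
  -- the lower side
  have h1 : Nat.card H * Nat.card C ≤ Nat.card D * T.card := by
    have hmaps : ∀ p ∈ (Finset.univ : Finset (H × C)), (p.1 : G) * p.2 ∈ T := fun p _ => by
      refine Finset.mem_filter.2 ⟨Finset.mem_univ _, p.1, p.1.2, ?_⟩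
      have := (hc p.2).1 p.2.2
      calc (p.1 : G) * p.2 * z * ((p.1 : G) * p.2)⁻¹
          = (p.1 : G) * ((p.2 : G) * z * (p.2 : G)⁻¹) * (p.1 : G)⁻¹ := by group
        _ = _ := by rw [this]
    have hfib : ∀ t ∈ T, ((Finset.univ : Finset (H × C)).filter
        fun p => (p.1 : G) * p.2 = t).card ≤ Nat.card D := by
      intro t _
      rcases ((Finset.univ : Finset (H × C)).filter fun p => (p.1 : G) * p.2 = t).eq_empty_or_nonempty
        with he | ⟨p₀, hp₀⟩
      · simp [he]
      · rw [Nat.card_eq_fintype_card, ← Finset.card_univ]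
        have hmem : ∀ p ∈ (Finset.univ : Finset (H × C)).filter (fun p => (p.1 : G) * p.2 = t),
            (p₀.1 : G)⁻¹ * p.1 ∈ D := by
          intro p hp
          refine ⟨H.mul_mem (H.inv_mem p₀.1.2) p.1.2, ?_⟩
          have e : (p₀.1 : G)⁻¹ * p.1 = (p₀.2 : G) * (p.2 : G)⁻¹ := by
            have a := (Finset.mem_filter.1 hp₀).2
            have b := (Finset.mem_filter.1 hp).2
            rw [inv_mul_eq_iff_eq_mul, ← mul_assoc, a, ← b, mul_inv_cancel_right]
          rw [e]
          exact C.mul_mem p₀.2.2 (C.inv_mem p.2.2)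
        refine Finset.card_le_card_of_injOn (fun p => if h : (p₀.1 : G)⁻¹ * p.1 ∈ D
          then (⟨_, h⟩ : D) else 1) (fun _ _ => Finset.mem_coe.2 (Finset.mem_univ _)) ?_
        intro p hp q hq e
        simp only [dif_pos (hmem p hp), dif_pos (hmem q hq), Subtype.mk.injEq, mul_right_inj] at e
        have b := (Finset.mem_filter.1 hp).2
        have b' := (Finset.mem_filter.1 hq).2
        rw [e] at b
        exact Prod.ext (Subtype.ext e) (Subtype.ext (mul_left_cancel (b.trans b'.symm)))
    have := Finset.card_le_mul_card_image_of_maps_to hmaps (Nat.card D) hfib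
    simpa [Nat.card_eq_fintype_card] using this
  -- the upper side, orbit by orbit
  let A : ι → Finset G := fun j =>
    Finset.univ.filter fun h => h ∈ H ∧ ∃ k ∈ H, w j * (h * z * h⁻¹) * (w j)⁻¹ = k * z * k⁻¹
  let P : ι → Finset G := fun j =>
    ((Finset.univ.filter fun a => a ∈ H) ×ˢ A j).image fun p => p.1 * w j * p.2
  have h2 : T ⊆ Finset.univ.biUnion P := by
    intro g hg
    obtain ⟨k, hk, e⟩ := (Finset.mem_filter.1 hg).2
    obtain ⟨j, a, ha, b, hb, rfl⟩ := hcover g
    refine Finset.mem_biUnion.2 ⟨j, Finset.mem_univ _, Finset.mem_image.2 ⟨(a, b), ?_, rfl⟩⟩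
    simp only [Finset.mem_product, Finset.mem_filter, Finset.mem_univ, true_and, A]
    refine ⟨ha, hb, a⁻¹ * k, mul_mem (inv_mem ha) hk, ?_⟩
    calc w j * (b * z * b⁻¹) * (w j)⁻¹
        = a⁻¹ * (a * w j * b * z * (a * w j * b)⁻¹) * a := by group
      _ = _ := by rw [e]; group
  have h3 : ∀ j, (A j).card ≤ (good j).card * Nat.card D := by
    intro j
    rw [Nat.mul_comm]
    refine Finset.card_le_mul_card_image_of_maps_to (f := fun h => h * z * h⁻¹)
      (fun h hh => by
        obtain ⟨hH, k, hk, e⟩ := (Finset.mem_filter.1 hh).2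
        exact hgood j h hH k hk e) _ fun v _ => ?_
    rcases ((A j).filter fun h => h * z * h⁻¹ = v).eq_empty_or_nonempty with he | ⟨h₀, hh₀⟩
    · simp [he]
    · rw [Nat.card_eq_fintype_card, ← Fintype.card_coe]
      have hmem : ∀ h : {h // h ∈ (A j).filter fun h => h * z * h⁻¹ = v}, h₀⁻¹ * h.1 ∈ D := by
        rintro ⟨h, hh⟩
        obtain ⟨hA, hv⟩ := Finset.mem_filter.1 hh
        obtain ⟨hA₀, hv₀⟩ := Finset.mem_filter.1 hh₀
        refine ⟨H.mul_mem (H.inv_mem (Finset.mem_filter.1 hA₀).2.1) (Finset.mem_filter.1 hA).2.1,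
          (hc _).2 ?_⟩
        calc h₀⁻¹ * h * z * (h₀⁻¹ * h)⁻¹ = h₀⁻¹ * (h * z * h⁻¹) * h₀ := by group
          _ = h₀⁻¹ * (h₀ * z * h₀⁻¹) * h₀ := by rw [hv, hv₀]
          _ = z := by group
      exact Fintype.card_le_of_injective (fun h => (⟨_, hmem h⟩ : D))
        fun a b e => Subtype.ext (mul_left_cancel (congrArg Subtype.val e))
  have h4 : ∀ j, (P j).card ≤ n j * (good j).card * Nat.card D := by
    intro j
    have hS : (P j).card * Nat.card (meetConj H (w j)) ≤ Nat.card H * (A j).card := by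
      have hH : (Finset.univ.filter fun a => a ∈ H).card = Nat.card H := by
        rw [Nat.card_eq_fintype_card, Fintype.card_subtype]
      rw [← hH, ← Finset.card_product]
      refine card_mul_le_of_fibre _ _ fun t ht => ?_
      obtain ⟨⟨a, b⟩, hab, rfl⟩ := Finset.mem_image.1 ht
      simp only [Finset.mem_product, Finset.mem_filter, Finset.mem_univ, true_and, A] at hab
      rw [Nat.card_eq_fintype_card, ← Finset.card_univ]
      refine Finset.card_le_card_of_injOn
        (fun s : meetConj H (w j) => (a * (w j * (s : G) * (w j)⁻¹), (s : G)⁻¹ * b)) ?_ ?_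
      · intro s _
        obtain ⟨hs1, hs2⟩ := mem_meetConj.1 s.2
        simp only [Finset.mem_coe, Finset.mem_filter, Finset.mem_product, Finset.mem_univ,
          true_and, A]
        obtain ⟨k, hk, e⟩ := hab.2.2
        refine ⟨⟨mul_mem hab.1 hs2, mul_mem (inv_mem hs1) hab.2.1,
          (w j * (s : G) * (w j)⁻¹)⁻¹ * k, mul_mem (inv_mem hs2) hk, ?_⟩, by group⟩
        calc w j * ((s : G)⁻¹ * b * z * ((s : G)⁻¹ * b)⁻¹) * (w j)⁻¹
            = (w j * (s : G) * (w j)⁻¹)⁻¹ * (w j * (b * z * b⁻¹) * (w j)⁻¹) *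
              (w j * (s : G) * (w j)⁻¹) := by group
          _ = _ := by rw [e]; group
      · intro s _ t _ e
        exact Subtype.ext (inv_injective (mul_right_cancel (congrArg Prod.snd e)))
    have hpos : 0 < Nat.card H := Nat.card_pos
    refine Nat.le_of_mul_le_mul_right ?_ hpos
    calc (P j).card * Nat.card H ≤ (P j).card * (n j * Nat.card (meetConj H (w j))) :=
          Nat.mul_le_mul_left _ (hstab j)
      _ = n j * ((P j).card * Nat.card (meetConj H (w j))) := by ring
      _ ≤ n j * (Nat.card H * (A j).card) := Nat.mul_le_mul_left _ hS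
      _ ≤ n j * (Nat.card H * ((good j).card * Nat.card D)) :=
          Nat.mul_le_mul_left _ (Nat.mul_le_mul_left _ (h3 j))
      _ = _ := by ring
  calc Nat.card H * Nat.card C ≤ Nat.card D * T.card := h1
    _ ≤ Nat.card D * (Finset.univ.biUnion P).card := Nat.mul_le_mul_left _ (Finset.card_le_card h2)
    _ ≤ Nat.card D * ∑ j, (P j).card := Nat.mul_le_mul_left _ Finset.card_biUnion_le
    _ ≤ Nat.card D * ∑ j, n j * (good j).card * Nat.card D :=
        Nat.mul_le_mul_left _ (Finset.sum_le_sum fun j _ => h4 j)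
    _ = _ := by rw [← Finset.sum_mul]; ring

end Cfsg.Agent.Lib.J4Cent18
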