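import Cfsg.Agent.Lib.J4Cent18.Count
import Cfsg.Agent.Lib.J4Dce59.Orbits
import Cfsg.Agent.Lib.J4Dce59.Simple

/-!
# The double coset data from the enumeration
-/

set_option autoImplicit false
set_option maxRecDepth 100000

namespace Cfsg.Agent.Lib.J4Cent18

open Cfsg.Agent.Lib Cfsg.Agent.Lib.J4Rep72 Subgroup

theorem hinj_rep : Function.Injective rep := rep_injective J4Dce59.isSimple_J

theorem gu_eq_ju : gu = J4Low8.ju := by
  have h1 : el21 * el12 = 1 := (mc21.mul mc12).eq hinj_rep Mc.one' (by decide +kernel)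
  have h2 : gy * gy * gy = 1 := ((mc_y.mul mc_y).mul mc_y).eq hinj_rep Mc.one' (by decide +kernel)
  have hy : gy * gy = gy⁻¹ := eq_inv_of_mul_eq_one_left h2
  have hw : el12 = J4Low8.jw := by
    simp only [el3, el4, el5, el6, el7, el8, el9, el10, el11, el12, hy, J4Low8.jw, pow_succ,
      pow_zero, one_mul, mul_assoc]
  have hwi : el21 = J4Low8.jw⁻¹ := hw ▸ eq_inv_of_mul_eq_one_left h1
  show el26 = _
  simp only [el22, el23, el24, el25, el26, hwi, hw, J4Low8.ju, pow_succ, pow_zero, one_mul, mul_assoc]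

theorem hSub_eq : hSub = J4Dce59.env.H := by
  rw [J4Dce59.H_eq_closure, hSub, gu_eq_ju]

/-- The images of the generators of the translations in the other model. -/
noncomputable def ePhi (i : ℕ) : JG := if h : i < 11 then J4Dce59.phi (J4Dce59.pe ⟨i, h⟩) else 1

theorem bitsProd_evBits (c : ℕ) :
    J4Dce59.bitsProd (fun i : Fin 11 => J4Dce59.phi (J4Dce59.pe i)) c = evBits ePhi 11 c := by
  have hp : ∀ (k : ℕ) (hk : k ≤ 11), evBits ePhi k c =
      ((((List.finRange 11).take k).filter fun i : Fin 11 => c.testBit i).map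
        fun i => J4Dce59.phi (J4Dce59.pe i)).prod := by
    intro k
    induction k with
    | zero => intro _; rfl
    | succ k ih =>
      intro hk
      have hlen : k < (List.finRange 11).length := by rw [List.length_finRange]; omega
      show evBits ePhi k c * pick ePhi c k = _
      rw [ih (by omega), List.take_succ_eq_append_getElem hlen, List.filter_append, List.map_append,
        List.prod_append]
      congr 1
      rw [List.getElem_finRange, pick, ePhi, dif_pos (show k < 11 by omega), List.filter_singleton]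
      simp only [Fin.cast_mk]
      cases c.testBit k <;> simp
  rw [hp 11 le_rfl, List.take_of_length_le (by rw [List.length_finRange])]
  rfl

theorem ePhi_sq (i : ℕ) (hi : i < 11) : ePhi i * ePhi i = 1 := by
  rw [ePhi, dif_pos hi, ← map_mul, J4Dce59.hRel_P.sq, map_one]

theorem ePhi_comm (i j : ℕ) (hi : i < 11) (hj : j < 11) : Commute (ePhi i) (ePhi j) := by
  rw [ePhi, ePhi, dif_pos hi, dif_pos hj]
  exact Commute.map (J4Dce59.hRel_P.comm _ _) _

/-- Steps reaching the whole orbit from the coordinate `934`. -/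
def orbOpsU : List (ℕ × ℕ) := [(934,0),(178,1),(969,0),(969,1),(1559,1),(1229,0),(1493,0),(1493,1),(1216,1),(2003,1),(1120,0),(1484,0),(1484,1),(215,0),(215,1),(500,1),(833,1),(266,0),(1794,1),(1192,0),(1736,0),(1736,1),(1220,0),(1220,1),(1420,1),(1145,0),(1145,1),(100,1),(1230,1),(152,0),(1225,1),(1061,0),(199,0),(199,1),(1382,1),(893,0),(531,0),(531,1),(1071,0),(1071,1),(1856,1),(347,0),(347,1),(951,1),(921,1),(1365,0),(731,0),(731,1),(1969,1),(1685,1),(465,0),(438,1),(843,0),(1115,0),(1115,1),(848,1),(386,0),(1833,0),(1833,1),(1277,0),(1277,1),(1037,1),(1797,1),(21,0),(706,0),(706,1),(1494,0),(1494,1),(655,1),(1770,0),(1770,1),(1997,1),(389,1),(165,0),(75,0),(75,1),(1623,1),(1085,1),(822,0),(1724,1),(888,0),(147,0),(147,1),(269,0),(269,1),(1171,1),(919,1),(1407,0),(1499,1),(253,0),(460,0),(460,1),(45,1),(832,0),(201,0),(201,1),(445,0),(445,1),(1329,1),(70,1),(1205,0),(1048,0),(1048,1),(857,0),(857,1),(2039,1),(886,0),(886,1),(1977,1),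(1357,1),(1164,0),(1920,1),(436,0),(353,0),(353,1),(1310,0),(1310,1),(235,1),(1411,0),(1411,1),(996,1),(1561,1),(1255,0),(1865,0),(1865,1),(1472,1),(412,1),(1206,0),(1570,1),(914,0),(1951,1),(459,0),(459,1),(1266,1),(454,1),(1525,0),(338,1),(1244,0),(777,0),(777,1),(1468,1),(634,0),(807,0),(807,1),(1428,1),(1671,1),(1146,1),(1579,1),(813,1),(578,0),(1099,1),(313,0),(1902,1),(771,1),(1110,0),(900,0),(900,1),(1078,0),(1078,1),(38,1),(145,1),(204,0),(262,0),(262,1),(1239,0),(1239,1),(1786,1),(644,0),(644,1),(714,1),(1045,1),(403,0),(2025,0),(2025,1),(1261,0),(1261,1),(308,1),(1301,0),(1301,1),(87,1),(1922,1),(1260,0),(781,0),(781,1),(560,1),(864,1),(1848,0),(223,0),(1476,0),(1476,1),(2016,0),(1555,0),(1555,1),(1842,0),(1842,1),(73,1),(344,1),(1528,1),(1935,0),(1254,0),(1254,1),(392,1),(1105,1),(126,0),(1316,1),(1569,0),(561,0),(561,1),(1379,0),(1379,1),(404,1),(1421,1),(602,1),(325,0),(701,0),(701,1),(988,1),(1204,0),(1178,0),(1178,1),(139,0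),(139,1),(704,1),(1448,1),(791,0),(551,1),(645,0),(1769,0),(1769,1),(1606,1),(1089,0),(1348,0),(1348,1),(1429,0),(1429,1),(555,1),(1926,1),(1285,0),(1915,0),(1915,1),(897,0),(897,1),(170,1),(1799,1),(836,1),(239,0),(1441,1),(1084,0),(683,1),(1971,0),(1370,0),(1370,1),(1311,0),(809,0),(809,1),(772,1),(42,1),(2045,0),(1219,0),(1219,1),(175,0),(175,1),(562,1),(761,0),(949,1),(630,1),(521,0),(1137,1),(1600,0),(1330,0),(1330,1),(1461,0),(1461,1),(1486,1),(425,1),(1001,0),(427,0),(427,1),(1278,1),(28,1),(1526,0),(467,1),(1172,0),(1168,0),(1168,1),(793,1),(284,1),(1010,0),(1010,1),(976,1),(2013,0),(151,0),(151,1),(1823,1),(154,1),(259,0),(1432,1),(1453,0),(1022,0),(1022,1),(1148,0),(1148,1),(733,1),(233,1),(745,0),(1113,1),(1253,0),(977,0),(977,1),(226,0),(226,1),(95,0),(95,1),(1403,1),(1934,0),(1934,1),(1829,1),(530,0),(530,1),(1540,1),(285,0),(1095,1),(357,1),(1755,0),(402,0),(402,1),(573,0),(573,1),(311,1),(1733,1),(1840,1),(1866,0),(1684,0)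,(1684,1),(998,1),(1734,0),(1734,1),(1712,0),(1712,1),(15,1),(664,0),(664,1),(685,1),(770,0),(895,1),(1946,0),(229,0),(229,1),(902,0),(902,1),(240,1),(185,1),(2021,0),(497,0),(497,1),(828,1),(395,0),(395,1),(537,1),(541,1),(1532,0),(1297,0),(1339,0),(1339,1),(1638,1),(639,0),(423,0),(423,1),(2000,1),(1353,1),(1381,0),(250,0),(250,1),(27,0),(27,1),(1413,1),(211,0),(211,1),(2017,1),(1639,1),(627,0),(1390,1),(2022,0),(19,0),(19,1),(1665,0),(1665,1),(1917,1),(330,0),(330,1),(546,1),(649,1),(1398,1),(1017,0),(1241,1),(1185,0),(1624,0),(1624,1),(776,1),(826,0),(826,1),(1689,1),(181,0),(181,1),(340,0),(340,1),(939,0),(939,1),(605,1),(716,1),(1332,0),(631,1),(517,0),(628,0),(628,1),(1510,0),(1510,1),(1628,0),(1628,1),(665,1),(543,1),(164,0),(619,0),(619,1),(1739,1),(379,0),(1276,1),(890,0),(1169,0),(1169,1),(1862,1),(1349,0),(532,0),(532,1),(1423,1),(1773,0),(1773,1),(1943,1),(1914,1),(1621,1),(401,0),(1003,0),(1713,0),(1713,1),(1449,1),(1128,1),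(595,0),(957,0),(957,1),(1630,1),(475,1),(50,0),(317,1),(1602,1),(676,1),(1941,0),(672,0),(672,1),(568,1),(184,1),(613,0),(1098,0),(1098,1),(1149,0),(1149,1),(1649,1),(488,1),(993,0),(1686,1),(1157,0),(1104,0),(1104,1),(1798,1),(1345,0),(754,0),(754,1),(2002,0),(2002,1),(569,1),(830,1),(1953,1),(1683,1),(1376,0),(1676,1),(1474,0),(751,0),(751,1),(1991,1),(1293,0),(1897,0),(1897,1),(458,0),(458,1),(806,0),(806,1),(1131,1),(166,1),(109,1),(907,1),(137,0),(414,0),(414,1),(2038,1),(955,0),(1498,1),(426,1),(1725,0),(1299,0),(191,1),(1752,0),(511,0),(511,1),(1180,0),(1180,1),(173,1),(962,0),(962,1),(14,1),(53,1),(1959,1),(823,0),(911,1),(352,0),(55,0),(55,1),(477,0),(477,1),(1341,1),(1703,1),(563,0),(1029,0),(1029,1),(1463,1),(1546,1),(1469,1),(529,1),(1117,0),(1117,1),(150,1),(1177,1),(1189,0),(1114,0),(1114,1),(545,1),(1588,0),(243,0),(243,1),(1947,1),(1527,0),(1527,1),(196,1),(756,1),(1264,1),(1544,0),(1643,0),(1643,1),(2034,1),(1246,1),(157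2,1),(1827,0),(143,0),(110,0),(120,1),(638,0),(638,1),(382,0),(382,1),(1667,0),(1667,1),(1438,1),(1343,1),(1898,0),(1694,0),(1694,1),(963,0),(963,1),(1186,1),(1298,1),(1066,0),(1378,1),(660,0),(1577,1),(1849,1),(245,1),(331,0),(331,1),(1678,1),(1501,0),(1424,1),(146,1),(491,1),(1717,0),(1497,1),(1445,0),(1004,0),(1004,1),(594,0),(831,0),(831,1),(1488,0),(1488,1),(1657,1),(188,0),(188,1),(324,1),(566,0),(195,0),(195,1),(1654,1),(763,0),(1049,1),(1249,0),(876,1),(586,0),(879,0),(879,1),(989,0),(1263,0),(1263,1),(983,1),(717,1),(1336,0),(1659,0),(1659,1),(1060,1),(241,0),(1819,0),(1819,1),(1265,1),(1094,1),(1719,0),(1719,1),(85,1),(1645,1),(540,1),(1520,0),(1701,0),(1701,1),(437,0),(483,0),(483,1),(1873,0),(1873,1),(825,0),(2043,1),(1286,1),(801,1),(112,1),(1726,0),(654,1),(104,0),(1939,0),(1939,1),(2035,1),(114,1),(1360,1),(374,0),(1653,0),(1653,1),(1663,0),(1663,1),(62,0),(62,1),(901,1),(163,0),(23,0),(23,1),(363,0),(363,1),(105,1),(393,1)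,(1012,0),(1012,1),(481,1),(1910,0),(255,0),(816,1),(456,0),(456,1),(1715,0),(1715,1),(1542,0),(1542,1),(1371,1),(1023,1),(2014,0),(1490,0),(1490,1),(642,0),(642,1),(1596,1),(471,1),(1705,1),(994,0),(994,1),(564,1),(1877,0),(1471,1),(1838,0),(1160,1),(1069,0),(213,1),(1660,0),(1660,1),(1150,1),(174,0),(1223,0),(2009,0),(2009,1),(309,0),(309,1),(446,1),(818,1),(1863,1),(2044,0),(715,0),(1904,0),(1904,1),(1995,1),(127,0),(339,0),(339,1),(2006,1),(310,0),(510,0),(510,1),(932,0),(932,1),(1268,1),(1132,0),(1132,1),(2020,1),(248,1),(609,0),(1234,1),(1824,0),(2011,1),(251,0),(1996,0),(1996,1),(419,1),(554,0),(1262,0),(1262,1),(122,1),(925,1),(1212,0),(861,1),(482,1),(135,0),(135,1),(550,1),(909,0),(909,1),(76,1),(302,1),(1808,0),(648,1),(35,1),(874,0),(494,0),(494,1),(1892,1),(1587,0),(1587,1),(997,1),(1093,1),(275,0),(884,1),(1062,0),(1062,1),(1776,1),(1550,0),(1195,0),(1195,1),(2008,1),(1344,0),(1344,1),(316,1),(111,1),(1564,0),(1575,1),(759,1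),(1039,1),(212,0),(1534,1),(773,0),(289,0),(1854,0),(1854,1),(519,0),(519,1),(1785,1),(1214,0),(1214,1),(1193,1),(1950,1),(736,0),(1000,0),(279,1),(1466,1),(1377,1),(1984,0),(1888,1),(1994,0),(121,1),(553,0),(1292,0),(1292,1),(1841,1),(1687,1),(1161,0),(300,1),(1901,0),(1901,1),(1126,1),(633,0),(942,0),(942,1),(480,1),(945,0),(945,1),(1294,0),(1780,1),(2023,0),(346,0),(1135,0),(1135,1),(1793,0),(1503,1),(476,1),(1202,0),(666,0),(666,1),(98,0),(98,1),(1552,1),(765,1),(898,0),(1682,0),(1682,1),(1035,1),(1936,0),(1936,1),(1508,0),(1351,0),(1384,1),(1545,0),(1545,1),(1852,1),(221,0),(1529,1),(923,0),(1807,0),(1807,1),(303,0),(315,1),(740,1),(1937,0),(207,0),(207,1),(574,1),(853,1),(103,0),(1100,0),(1100,1),(2033,1),(1730,0),(694,1),(585,0),(2031,0),(2031,1),(501,1),(1563,0),(1641,0),(526,0),(526,1),(1190,1),(1502,1),(1076,1),(306,0),(306,1),(484,1),(839,1),(1467,0),(908,0),(908,1),(47,1),(1560,0),(525,0),(525,1),(1300,0),(1300,1),(1275,1),(1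843,0),(1843,1),(466,1),(1176,0),(1664,1),(1112,1),(1257,0),(449,0),(449,1),(1822,0),(1822,1),(1608,1),(1208,0),(1208,1),(1706,0),(1706,1),(294,1),(762,1),(1855,0),(1925,0),(1925,1),(1322,1),(1547,0),(1782,0),(1782,1),(187,0),(286,1),(917,0),(447,1),(695,0),(695,1),(1883,1),(846,0),(1455,0),(158,1),(234,0),(1804,0),(1899,0),(1899,1),(452,1),(1567,0),(1567,1),(558,0),(558,1),(380,0),(1290,1),(815,0),(815,1),(1923,1),(358,1),(1983,0),(522,1),(1568,0),(1568,1),(1791,1),(1576,0),(673,0),(1124,0),(1908,1),(252,1),(779,0),(1967,0),(1967,1),(838,1),(1644,0),(327,1),(1680,0),(1680,1),(1768,1),(724,1),(299,0),(814,0),(1081,0),(1081,1),(1679,1),(1777,0),(1650,1),(1553,0),(1553,1),(56,1),(183,1),(579,0),(1756,0),(1756,1),(1573,1),(1839,0),(862,1),(1965,1),(860,1),(1021,1),(646,0),(735,1),(1130,0),(1306,0),(1790,1),(1194,0),(1704,1),(533,0),(548,0),(548,1),(1617,1),(31,1),(162,0),(149,0),(149,1),(1430,1),(1415,0),(658,1),(824,0),(824,1),(1367,1),(161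6,0),(1616,1),(1627,0),(1627,1),(707,1),(218,1),(263,0),(867,1),(632,0),(1870,0),(1870,1),(924,1),(1200,0),(1688,0),(1688,1),(1232,0),(1232,1),(1696,1),(1810,1),(1068,0),(783,0),(783,1),(1743,1),(1681,0),(1681,1),(785,0),(954,0),(954,1),(507,1),(515,1),(1362,0),(1584,0),(1584,1),(280,0),(1998,0),(2037,1),(1775,0),(1845,0),(1845,1),(1218,0),(1218,1),(378,1),(411,0),(1702,0),(1702,1),(448,1),(11,1),(463,0),(1610,1),(307,0),(894,0),(894,1),(705,0),(1273,0),(1273,1),(176,0),(1080,0),(1080,1),(1556,1),(409,0),(1101,1),(1416,0),(372,0),(372,1),(1279,1),(1582,0),(653,0),(1787,0),(1787,1),(1872,0),(1872,1),(678,1),(225,0),(794,0),(794,1),(1207,1),(1236,0),(198,1),(637,0),(936,1),(995,0),(222,0),(222,1),(1509,1),(498,0),(498,1),(1395,1),(722,1),(1138,1),(1282,0),(1282,1),(1252,1),(1893,0),(1979,1),(301,0),(301,1),(869,1),(1757,0),(231,0),(231,1),(1846,1),(376,1),(1211,0),(1211,1),(953,1),(875,0),(1574,0),(1574,1),(956,1),(1331,1),(1656,1),(999,0),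(999,1),(1414,1),(1507,1),(732,0),(432,0),(432,1),(115,0),(115,1),(687,1),(1156,0),(1156,1),(871,1),(873,1),(688,0),(1057,0),(1057,1),(1723,1),(692,0),(457,1),(559,0),(1874,0),(1874,1),(69,1),(140,0),(2032,0),(2032,1),(1597,1),(819,0),(819,1),(71,1),(1774,0),(1774,1),(472,1),(508,0),(1103,1),(852,0),(608,1),(866,0),(866,1),(1765,1),(1903,0),(1054,0),(1054,1),(1388,1),(1853,1),(1869,1),(1162,0),(304,0),(304,1),(775,1),(1359,1),(1522,1),(596,0),(1123,0),(1123,1),(910,1),(364,0),(387,1),(1044,0),(470,0),(470,1),(1820,0),(1820,1),(669,1),(1464,0),(102,0),(1274,1),(542,1),(168,0),(86,1),(647,0),(1412,0),(1412,1),(1410,1),(1258,0),(1516,1),(1087,0),(796,1),(1064,1),(599,0),(601,0),(601,1),(44,0),(44,1),(1537,1),(1826,1),(662,0),(787,1),(323,1),(742,0),(742,1),(167,1),(1737,1),(1059,0),(1735,1),(641,0),(1259,1),(1400,0),(1041,1),(155,0),(155,1),(2041,1),(1465,1),(415,1),(1720,1),(657,0),(1825,1),(1986,0),(328,0),(328,1),(193,1),(350,0),(350,1),(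270,1),(1982,1),(444,1),(1210,1),(1999,0),(1027,1),(1900,0),(396,0),(703,0),(703,1),(82,1),(39,1),(581,1),(753,1),(1803,1),(63,0),(1962,0),(1962,1),(1981,0),(1981,1),(1154,1),(1541,1),(209,1),(200,0),(1554,0),(1554,1),(712,0),(712,1),(899,0),(1818,1),(93,1),(1626,0),(1832,1),(1783,1),(691,0),(1738,1),(441,1),(877,0),(593,0),(1648,1),(702,0),(1817,0),(205,0),(205,1),(1964,0),(1289,1),(1583,1),(1772,0),(575,1),(1690,0),(1019,0),(1512,0),(1781,0),(1781,1),(1814,0),(1814,1),(420,1),(947,1),(680,0),(1538,0),(1538,1),(416,1),(124,1),(1256,1),(991,1),(314,1),(1661,0),(2024,0),(2024,1),(2047,1),(1836,0),(1267,1),(1125,1),(177,0),(177,1),(351,1),(1867,0),(2001,1),(1142,1),(966,1),(1523,0),(721,0),(802,0),(802,1),(1159,1),(1295,0),(1295,1),(803,0),(803,1),(1746,1),(650,0),(116,0),(116,1),(800,1),(443,0),(443,1),(131,1),(1609,1),(1127,0),(478,0),(478,1),(882,1),(1708,1),(1548,1),(1199,0),(1340,1),(271,1),(290,0),(292,0),(292,1),(829,0),(1325,1),(394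,0),(394,1),(1599,0),(1242,1),(22,0),(1766,1),(571,0),(1070,0),(1070,1),(1614,1),(1347,1),(1307,0),(410,0),(410,1),(1711,1),(1514,0),(1514,1),(439,1),(1033,0),(980,1),(643,0),(743,1),(746,1),(671,0),(671,1),(1871,1),(1475,1),(1250,0),(1363,0),(1363,1),(1321,1),(1619,0),(1760,0),(1760,1),(1985,1),(368,0),(368,1),(1662,1),(1106,1),(941,1),(479,0),(479,1),(1859,0),(487,0),(552,0),(552,1),(238,0),(117,1),(892,1),(718,0),(1518,0),(1479,0),(1198,0),(1198,1),(400,1),(961,1),(406,1),(1629,1),(1121,0),(1358,1),(635,0),(635,1),(810,1),(859,0),(408,1),(2027,1),(1456,0),(1456,1),(26,1),(1647,1),(1580,0),(1096,1),(1133,0),(1784,0),(1784,1),(1728,0),(1728,1),(1882,1),(179,0),(1809,1),(1566,0),(1334,1),(1802,0),(1802,1),(1444,1),(1637,0),(748,0),(748,1),(1077,1),(652,0),(430,1),(1876,0),(661,1),(312,0),(2028,0),(2028,1),(820,1),(1284,1),(931,0),(373,0),(373,1),(367,0),(473,1),(51,1),(1006,0),(588,1),(1058,1),(1393,0),(1030,0),(1016,1),(134,1),(1269,0),(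915,0),(915,1),(651,0),(336,0),(616,1),(737,0),(878,1),(366,1),(1812,0),(1646,0),(1646,1),(1324,0),(1323,1),(1083,1),(844,0),(119,1),(1593,0),(370,0),(1143,1),(1091,1),(713,1),(1233,0),(1558,0),(1958,1),(920,0),(464,1),(979,0),(1709,0),(1354,1),(1435,0),(1435,1),(1418,0),(390,1),(556,1),(197,0),(1741,0),(696,0),(696,1),(1074,1),(1758,0),(1758,1),(138,1),(391,0),(656,1),(755,1),(1764,1),(1399,1),(1692,0),(1692,1),(624,1),(918,1),(332,1),(612,1),(1243,0),(1243,1),(1320,0),(1042,1),(504,1),(265,0),(572,1),(974,0),(582,0),(582,1),(1342,0),(1342,1),(887,1),(1591,0),(1591,1),(1477,0),(1477,1),(505,1),(1227,1),(381,0),(1452,0),(1452,1),(281,0),(747,0),(1436,0),(789,0),(789,1),(1707,0),(700,0),(985,1),(1778,0),(1031,1),(59,0),(1524,1),(1932,0),(206,0),(206,1),(598,0),(296,1),(385,0),(385,1),(1879,0),(764,1),(1392,0),(1589,0),(750,1),(629,0),(490,0),(490,1),(710,1),(1271,0),(469,1),(349,1),(1912,1),(610,1),(1747,1),(1612,1),(837,0),(1075,1),(1640,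1),(1473,1),(1907,0),(1907,1),(1835,1),(670,0),(189,0),(7,0),(90,1),(965,1),(1611,0),(1611,1),(203,1),(141,1),(106,1),(224,1),(1949,1),(1312,1),(1674,0),(1222,1),(417,1),(355,0),(486,0),(1631,1),(1184,0),(1184,1),(675,0),(1620,0),(1620,1),(1718,0),(108,0),(108,1),(1291,0),(329,0),(1079,1),(1535,0),(1732,0),(1732,1),(1924,1),(1911,0),(1911,1),(1051,1),(1402,0),(684,1),(782,0),(1800,0),(1800,1),(2018,0),(840,1),(950,0),(180,0),(180,1),(1975,1),(752,0),(799,1),(1425,1),(792,1),(1309,0),(618,1),(1328,0),(1328,1),(153,0),(153,1),(805,0),(805,1),(450,0),(1816,0),(84,0),(1551,1),(1878,0),(738,1),(1834,1),(1860,0),(1860,1),(57,1),(1750,0),(1174,0),(1213,1),(397,0),(397,1),(388,0),(1652,0),(1652,1),(1053,0),(157,1),(698,0),(698,1),(1140,0),(780,0),(729,0),(431,1),(58,0),(1217,1),(1304,1),(1513,0),(1369,0),(1369,1),(1170,0),(1170,1),(1008,0),(249,0),(249,1),(1153,1),(611,1),(767,1),(1533,0),(97,1),(1590,0),(1847,1),(1788,1),(1014,0),(1487,1),(1427,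0),(1427,1),(232,1),(360,0),(360,1),(227,1),(1894,0),(1894,1),(1139,0),(83,0),(1065,1),(422,1),(975,0),(708,0),(1303,0),(1092,1),(749,0),(356,1),(1751,0),(1613,1),(1748,1),(1485,1),(1963,0),(1885,0),(29,1),(693,0),(1118,1),(1389,1),(690,0),(462,1),(1391,0),(933,1),(1281,1),(190,0),(319,0),(319,1),(1036,1),(1408,0),(25,1),(992,1),(305,1),(1672,0),(1672,1),(808,1),(1634,1),(1431,0),(1011,1),(1675,0),(1151,1),(1240,1),(845,1),(1815,1),(1913,1),(1753,0),(1519,0),(1519,1),(1511,1),(1155,0),(428,1),(1086,0),(1086,1),(1955,0),(1955,1),(1288,1),(1136,1),(1851,0),(1109,1),(267,1),(1386,1),(621,0),(621,1),(626,1),(1669,1),(1948,1),(1805,0),(1165,1),(891,0),(891,1),(1492,0),(1492,1),(1605,1),(1821,1),(1988,0),(326,0),(434,1),(1419,1),(1457,1),(2015,1),(277,0),(1651,0),(219,1),(798,1)]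

theorem replayU_ok : replay orbOpsU (2 ^ 934) = some orbMask := by decide +kernel

theorem lin_eq : linX = J4Dce59.mxRows ∧ linY = J4Dce59.myRows := ⟨rfl, rfl⟩

theorem ePhi_conjX (i : ℕ) (hi : i < 11) : gx⁻¹ * ePhi i * gx = evBits ePhi 11 (linX.getD i 0) := by
  have h := congrArg J4Dce59.phi (J4Dce59.hRel_P.conj_x ⟨i, hi⟩)
  rw [map_mul, map_mul, map_inv, J4Dce59.phi_x, J4Dce59.map_bitsProd, bitsProd_evBits] at h
  rw [ePhi, dif_pos hi, lin_eq.1]
  exact h

theorem ePhi_conjY (i : ℕ) (hi : i < 11) : gy⁻¹ * ePhi i * gy = evBits ePhi 11 (linY.getD i 0) := by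
  have h := congrArg J4Dce59.phi (J4Dce59.hRel_P.conj_y ⟨i, hi⟩)
  rw [map_mul, map_mul, map_inv, J4Dce59.phi_y, J4Dce59.map_bitsProd, bitsProd_evBits] at h
  rw [ePhi, dif_pos hi, lin_eq.2]
  exact h

theorem mask_span : ((List.range 11).all fun i => (List.range 2048).any fun a =>
    Nat.testBit orbMask a && ((List.range 2048).any fun b =>
      Nat.testBit orbMask b && Nat.beq (a ^^^ b) (2 ^ i))) = true := by decide +kernel

theorem evBits_two_pow {G : Type*} [Group G] (e : ℕ → G) (i : ℕ) :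
    ∀ k, evBits e k (2 ^ i) = if i < k then e i else 1
  | 0 => rfl
  | k + 1 => by
    show evBits e k (2 ^ i) * pick e (2 ^ i) k = _
    rw [evBits_two_pow e i k, pick, Nat.testBit_two_pow]
    rcases Nat.lt_trichotomy i k with h | rfl | h
    · rw [if_pos h, if_neg (by simpa using (show i ≠ k by omega)), if_pos (by omega), mul_one]
    · simp
    · rw [if_neg (by omega), if_neg (by simpa using (show i ≠ k by omega)), if_neg (by omega), mul_one]

theorem ePhi_u : evBits ePhi 11 934 = gu := by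
  rw [← bitsProd_evBits, gu_eq_ju, ← J4Dce59.phi_pu, J4Dce59.pu, J4Dce59.map_bitsProd]

theorem ePhi_eq (i : ℕ) (hi : i < 11) : ePhi i = en i := by
  have hX : ∀ c, gx⁻¹ * evBits ePhi 11 c * gx = evBits ePhi 11 (linBits linX 11 c) :=
    fun c => evBits_conj ePhi_sq ePhi_comm ePhi_conjX 11 le_rfl c
  have hY : ∀ c, gy⁻¹ * evBits ePhi 11 c * gy = evBits ePhi 11 (linBits linY 11 c) :=
    fun c => evBits_conj ePhi_sq ePhi_comm ePhi_conjY 11 le_rfl c
  have key : ∀ (l : List (ℕ × ℕ)) (m m' : ℕ),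
      (∀ c, m.testBit c = true → evBits ePhi 11 c = ev c) → replay l m = some m' →
      ∀ c, m'.testBit c = true → evBits ePhi 11 c = ev c := by
    intro l
    induction l with
    | nil =>
      intro m m' h e
      rw [replay, Option.some.injEq] at e
      exact e ▸ h
    | cons s l ih =>
      obtain ⟨a, g⟩ := s
      intro m m' h e
      rw [replay] at e
      cases ha : Nat.testBit m a with
      | false => simp [ha] at e
      | true =>
        simp only [ha, cond_true] at e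
        refine ih _ m' (fun c hc => ?_) e
        rw [Nat.testBit_or, Bool.or_eq_true, Nat.testBit_two_pow, decide_eq_true_iff] at hc
        rcases hc with hc | hc
        · exact h c hc
        · subst hc
          cases Nat.beq g 0
          · show evBits ePhi 11 (linBits linY 11 a) = ev (linBits linY 11 a)
            rw [← hY, h a ha, ev_conjY hinj_rep]
          · show evBits ePhi 11 (linBits linX 11 a) = ev (linBits linX 11 a)
            rw [← hX, h a ha, ev_conjX hinj_rep]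
  have hall : ∀ c, orbMask.testBit c = true → evBits ePhi 11 c = ev c :=
    key orbOpsU (2 ^ 934) orbMask (fun c hc => by
      rw [Nat.testBit_two_pow, decide_eq_true_iff] at hc
      subst hc
      rw [ePhi_u, gu_eq hinj_rep]) replayU_ok
  have hs := List.all_eq_true.1 mask_span i (List.mem_range.2 hi)
  obtain ⟨a, -, ha⟩ := List.any_eq_true.1 hs
  rw [Bool.and_eq_true] at ha
  obtain ⟨b, -, hb⟩ := List.any_eq_true.1 ha.2
  rw [Bool.and_eq_true] at hb
  have e1 : evBits ePhi 11 (2 ^ i) = ev (2 ^ i) := by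
    rw [← Nat.eq_of_beq_eq_true hb.2, evBits_xor ePhi_sq ePhi_comm 11 le_rfl, hall a ha.1,
      hall b hb.1, ev_xor hinj_rep]
  rw [ev, evBits_two_pow, evBits_two_pow, if_pos hi, if_pos hi] at e1
  exact e1

end Cfsg.Agent.Lib.J4Cent18
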