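import Cfsg.Agent.Lib.J4Cent18.Orbit
import Cfsg.Agent.Lib.J4Cent18.Bound
import Cfsg.Agent.Lib.J4Cent18.Neg1
import Cfsg.Agent.Lib.J4Cent18.Neg2
import Cfsg.Agent.Lib.J4Cent18.Neg3
import Cfsg.Agent.Lib.J4Cent18.Neg4
import Cfsg.Agent.Lib.J4Cent18.Neg5
import Cfsg.Agent.Lib.J4Cent18.Neg6

/-!
# The order of the centraliser is at most 77 times that of its part in `2^11:M24`
-/

set_option autoImplicit false
set_option maxRecDepth 100000

namespace Cfsg.Agent.Lib.J4Cent18

open Cfsg.Agent.Lib Cfsg.Agent.Lib.J4Rep72 Subgroup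

/-- The sizes of the seven orbits. -/
def orbSize : Fin 7 → ℕ := ![1, 15180, 3400320, 32643072, 28336, 54405120, 82575360]

/-- What is needed about a representative: its action on the base vector and on the probe set. -/
structure VecData (w : JG) (p qw : ℕ) (sw : List ℕ) : Prop where
  base : vmul (vecOf baseVec) w = vecOf p
  probe : vmul (vecOf probeVec) w = vecOf qw
  set : ∀ a ∈ probeSet, ∃ b ∈ sw, vmul (vecOf a) w = vecOf b

/-- The double coset data of `2^11:M24` in the presented group. -/
structure DCData : Prop where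
  simple : IsSimpleGroup JG
  finite : Finite JG
  card : Nat.card JG = 86775571046077562880
  cardH : Nat.card hSub = 501397585920
  reps : ∃ w : Fin 7 → JG,
    (∀ g, ∃ j, ∃ a ∈ hSub, ∃ b ∈ hSub, g = a * w j * b) ∧
    (∀ j, Nat.card hSub ≤ orbSize j * Nat.card (meetConj hSub (w j))) ∧
    VecData (w 1) pv1 qv1 sv1 ∧ VecData (w 2) pv2 qv2 sv2 ∧ VecData (w 3) pv3 qv3 sv3 ∧
    VecData (w 4) pv4 qv4 sv4 ∧ VecData (w 5) pv5 qv5 sv5 ∧ VecData (w 6) pv6 qv6 sv6

/-- The good coordinates of the seven orbits. -/
def goodMask : Fin 7 → ℕ := ![orbMask, good1, good2, good3, good4, good5, good6]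

/-- The good coordinates as finite sets. -/
noncomputable def goodCoords (j : Fin 7) : Finset ℕ :=
  ((List.range 2048).filter fun c => Nat.testBit (goodMask j) c).toFinset

theorem goodSum : Nat.beq (((List.finRange 7).map fun j => orbSize j *
    ((List.range 2048).filter fun c => Nat.testBit (goodMask j) c).length).sum) 136367 = true := by
  decide +kernel

theorem tab5_moves : tabAll (fun c a => Nat.beq c 0 || !Nat.beq a pv5) tab5 0 = true := by
  decide +kernel

variable (hinj : Function.Injective rep)
include hinj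

theorem ev_injOn : Set.InjOn ev {c | c < 2048} := by
  intro a ha b hb e
  have htab : tableOK pv5 tab5 = true := by
    have h := negOK5
    simp only [negOK, Bool.and_eq_true] at h
    exact h.1.1.1
  have hlen : tab5.length = 2048 := by
    have h := htab
    simp only [tableOK, Bool.and_eq_true] at h
    exact Nat.eq_of_beq_eq_true h.1.1.1
  have hlt : a ^^^ b < 2048 := Nat.xor_lt_two_pow (n := 11) ha hb
  have h1 : ev (a ^^^ b) = 1 := by
    rw [ev_xor hinj, ← e, ← ev_xor hinj, Nat.xor_self]
    exact evBits_zero 11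
  have h2 := table_spec htab 11 le_rfl (a ^^^ b) (by norm_num; omega)
  rw [show evBits en 11 (a ^^^ b) = 1 from h1, vmul_one] at h2
  have hp : pv5 < 2 ^ 112 := by
    have h := negOK5
    simp only [negOK, Bool.and_eq_true] at h
    exact Nat.le_of_ble_eq_true h.1.1.2
  have h3 := vecOf_inj hp (table_lt htab hlt) h2
  have h4 := tabAll_spec tab5 0 tab5_moves (a ^^^ b) (by omega)
  rw [Nat.zero_add, ← h3, Nat.beq_refl] at h4
  simp only [Bool.not_true, Bool.or_false] at h4
  exact Nat.xor_eq_zero_iff.1 (Nat.eq_of_beq_eq_true h4)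

/-- The bound on the centraliser. -/
theorem card_czv_le (hD : DCData) :
    Nat.card hSub = Nat.card ↥(hSub ⊓ centralizer ({zv} : Set JG)) * 1771 ∧
    Nat.card (centralizer ({zv} : Set JG)) ≤
      77 * Nat.card ↥(hSub ⊓ centralizer ({zv} : Set JG)) := by
  classical
  haveI := hD.finite
  set D := hSub ⊓ centralizer ({zv} : Set JG) with hDdef
  have hcard := card_hSub_eq hinj (ev_injOn hinj)
  obtain ⟨w, hcover, hstab, v1, v2, v3, v4, v5, v6⟩ := hD.reps
  refine ⟨hcard.symm, ?_⟩
  have hgood : ∀ j, ∀ h ∈ hSub, ∀ k ∈ hSub, w j * (h * zv * h⁻¹) * (w j)⁻¹ = k * zv * k⁻¹ →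
      h * zv * h⁻¹ ∈ (goodCoords j).image ev := by
    intro j h hh k hk e
    obtain ⟨c, hc, ec⟩ := exists_coord hinj hh
    obtain ⟨d, -, ed⟩ := exists_coord hinj hk
    rw [ec] at e ⊢
    rw [ed] at e
    refine Finset.mem_image.2 ⟨c, ?_, rfl⟩
    rw [goodCoords, List.mem_toFinset, List.mem_filter, List.mem_range]
    refine ⟨lt_of_mask hc, ?_⟩
    have key : ∀ {gd p qw : ℕ} {sw L : List ℕ}, negOK gd p qw sw L = true → VecData (w j) p qw sw →
        gd.testBit c = true := fun hn hv =>
      good_of_negOK hn hv.base hv.probe hv.set (lt_of_mask hc) hc e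
    fin_cases j
    · exact hc
    · exact key negOK1 v1
    · exact key negOK2 v2
    · exact key negOK3 v3
    · exact key negOK4 v4
    · exact key negOK5 v5
    · exact key negOK6 v6
  have hmul := centralizer_card_mul_le hSub w orbSize (fun j => (goodCoords j).image ev) hcover hstab hgood
  have hsum : ∑ j, orbSize j * ((goodCoords j).image ev).card ≤ 136367 := by
    refine le_trans (Finset.sum_le_sum fun j _ => Nat.mul_le_mul_left _ Finset.card_image_le) ?_
    have hc : ∀ j, (goodCoords j).card =
        ((List.range 2048).filter fun c => Nat.testBit (goodMask j) c).length := fun j =>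
      List.toFinset_card_of_nodup (List.nodup_range.filter _)
    simp only [hc]
    rw [← Nat.eq_of_beq_eq_true goodSum, Fin.sum_univ_def]
  have h3 : Nat.card hSub * Nat.card (centralizer ({zv} : Set JG)) ≤
      Nat.card D * Nat.card D * 136367 := hmul.trans (Nat.mul_le_mul_left _ hsum)
  rw [← hcard] at h3
  have hpos : 0 < Nat.card D := Nat.card_pos
  refine Nat.le_of_mul_le_mul_left ?_ (show 0 < Nat.card D * 1771 by omega)
  calc Nat.card D * 1771 * Nat.card (centralizer ({zv} : Set JG))
      ≤ Nat.card D * Nat.card D * 136367 := h3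
    _ = _ := by ring

end Cfsg.Agent.Lib.J4Cent18
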