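import Cfsg.Agent.Lib.J4Cent18.Neg1
import Cfsg.Agent.Lib.J4Cent18.Neg2
import Cfsg.Agent.Lib.J4Cent18.Neg3
import Cfsg.Agent.Lib.J4Cent18.Neg4
import Cfsg.Agent.Lib.J4Cent18.Neg5
import Cfsg.Agent.Lib.J4Cent18.Neg6

/-! The images of the probe vectors along the six representatives. -/

set_option autoImplicit false
set_option maxRecDepth 100000

namespace Cfsg.Agent.Lib.J4Cent18

open Cfsg.Agent.Lib Cfsg.Agent.Lib.J4Rep72

/-- The letters: `x`, `y`, `t` and the eleven involutions. -/
def letEl : ℕ → JG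
  | 0 => gx
  | 1 => gy
  | 2 => gt
  | n + 3 => en n

/-- Their matrices. -/
def letMat : ℕ → List ℕ
  | 0 => J4Rep72.matX
  | 1 => J4Rep72.matY
  | 2 => J4Rep72.matT
  | n + 3 => eMat n

theorem mc_let : ∀ n, Mc (letEl n) (letMat n)
  | 0 => mc_x
  | 1 => mc_y
  | 2 => mc_t
  | n + 3 => mc_en n

/-- The image of a packed vector along a word. -/
noncomputable def pathVec : List ℕ → ℕ → ℕ
  | [], v => v
  | l :: p, v => pathVec p (rowMul v (letMat l))

theorem pathVec_spec : ∀ (p : List ℕ) (v : ℕ),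
    vmul (vecOf v) (p.map letEl).prod = vecOf (pathVec p v)
  | [], v => vmul_one _
  | l :: p, v => by
    rw [List.map_cons, List.prod_cons, vmul_mul,
      show vmul (vecOf v) (letEl l) = vecOf (rowMul v (letMat l)) from (vecOf_rowMul (mc_let l) v).symm,
      pathVec_spec p]
    rfl

/-- The words of the representatives. -/
def repPath : ℕ → List ℕ
  | 1 => [2]
  | 2 => [2, 1, 1, 2]
  | 3 => [2, 1, 1, 0, 1, 1, 2]
  | 4 => [2, 1, 1, 0, 1, 0, 1, 1, 3, 8, 9, 11, 12, 2]
  | 5 => [2, 1, 1, 2, 1, 1, 2]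
  | 6 => [2, 1, 1, 2, 0, 1, 1, 2]
  | _ => []

/-- The check for one representative. -/
noncomputable def pathOK (p : List ℕ) (pv qw : ℕ) (sw : List ℕ) : Bool :=
  Nat.beq (pathVec p baseVec) pv && Nat.beq (pathVec p probeVec) qw &&
    probeSet.all fun a => memL (pathVec p a) sw

theorem pathOK1 : pathOK (repPath 1) pv1 qv1 sv1 = true := by decide +kernel

theorem pathOK2 : pathOK (repPath 2) pv2 qv2 sv2 = true := by decide +kernel

theorem pathOK3 : pathOK (repPath 3) pv3 qv3 sv3 = true := by decide +kernel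

theorem pathOK4 : pathOK (repPath 4) pv4 qv4 sv4 = true := by decide +kernel

theorem pathOK5 : pathOK (repPath 5) pv5 qv5 sv5 = true := by decide +kernel

theorem pathOK6 : pathOK (repPath 6) pv6 qv6 sv6 = true := by decide +kernel


end Cfsg.Agent.Lib.J4Cent18
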