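import Cfsg.Agent.Lib.J4Cent18.Bridge
import Cfsg.Agent.Lib.J4Cent18.Paths

/-!
# The representatives and the stabilisers of the enumeration
-/

set_option autoImplicit false
set_option maxRecDepth 100000

namespace Cfsg.Agent.Lib.J4Cent18

open Cfsg.Agent.Lib Cfsg.Agent.Lib.J4Rep72 Subgroup

theorem phi_genP : ∀ n, n < 13 → J4Dce59.phi (J4Dce59.genP n) = letEl (if n < 2 then n else n + 1)
  | 0, _ => J4Dce59.phi_x
  | 1, _ => J4Dce59.phi_y
  | n + 2, h => by
    have h' : n < 11 := by omega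
    have e : J4Dce59.genP (n + 2) = J4Dce59.pe ⟨n, h'⟩ := dif_pos h'
    rw [e, if_neg (by omega)]
    show _ = en n
    rw [← ePhi_eq n h', ePhi, dif_pos h']

theorem rep_step0 : J4Dce59.env.w J4Dce59.Data.D 0 = ((repPath 0).map letEl).prod :=
  J4Dce59.w_zero J4Dce59.env J4Dce59.Data.D

theorem rep_of_step (m i : ℕ) (hl : List ℕ) (c : ℕ)
    (hdef : (Nat.blt m J4Dce59.Data.D.defs.length &&
      Nat.beq (J4Dce59.Data.D.defs.getD m (0, 0)).1 i && Nat.ble i m &&
      Nat.beq (J4Dce59.Data.D.defs.getD m (0, 0)).2 c) = true)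
    (hi : J4Dce59.env.w J4Dce59.Data.D i = ((repPath i).map letEl).prod)
    (hlt : (hl.all fun a => Nat.blt a 13) = true)
    (hc : Nat.beq (J4Dce59.ev J4Dce59.genCode hl) c = true)
    (hp : repPath (m + 1) = repPath i ++ hl.map (fun n => if n < 2 then n else n + 1) ++ [2]) :
    J4Dce59.env.w J4Dce59.Data.D (m + 1) = ((repPath (m + 1)).map letEl).prod := by
  simp only [Bool.and_eq_true] at hdef
  obtain ⟨⟨⟨h1, h2⟩, h3⟩, h4⟩ := hdef
  have h2 := Nat.eq_of_beq_eq_true h2
  have hlt' : ∀ a ∈ hl, a < 13 := fun a ha => Nat.le_of_ble_eq_true (List.all_eq_true.1 hlt a ha)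
  have hstep := J4Dce59.wList_step J4Dce59.env J4Dce59.Data.D.defs [1] m (Nat.le_of_ble_eq_true h1)
    (by rw [h2]; have := Nat.le_of_ble_eq_true h3; simp; omega)
  rw [List.length_singleton, Nat.add_comm 1 m, h2, Nat.eq_of_beq_eq_true h4] at hstep
  have hval : J4Dce59.env.val c =
      ((hl.map fun n => if n < 2 then n else n + 1).map letEl).prod := by
    rw [← Nat.eq_of_beq_eq_true hc, J4Dce59.env.val_eq (J4Dce59.code_wordP hl hlt'), J4Dce59.wordP]
    show J4Dce59.phi _ = _
    rw [map_list_prod, List.map_map, List.map_map]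
    exact congrArg List.prod (List.map_congr_left fun a ha => phi_genP a (hlt' a ha))
  rw [hp, List.map_append, List.map_append, List.prod_append, List.prod_append, List.map_singleton,
    List.prod_singleton, ← hi, ← hval]
  exact hstep

theorem rep_step1 : J4Dce59.env.w J4Dce59.Data.D 1 = ((repPath 1).map letEl).prod :=
  rep_of_step 0 0 [] 11151733894906779683522195341810241573494785 (by decide +kernel) rep_step0 (by decide +kernel) (by decide +kernel) rfl

theorem rep_step2 : J4Dce59.env.w J4Dce59.Data.D 2 = ((repPath 2).map letEl).prod :=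
  rep_of_step 1 1 [1, 1] 11152519528785069069801346756252547099710159 (by decide +kernel) rep_step1 (by decide +kernel) (by decide +kernel) rfl

theorem rep_step3 : J4Dce59.env.w J4Dce59.Data.D 3 = ((repPath 3).map letEl).prod :=
  rep_of_step 2 1 [1, 1, 0, 1, 1] 11151002973398331875321357198811726464861178 (by decide +kernel) rep_step1 (by decide +kernel) (by decide +kernel) rfl

theorem rep_step4 : J4Dce59.env.w J4Dce59.Data.D 4 = ((repPath 4).map letEl).prod :=
  rep_of_step 3 1 [1, 1, 0, 1, 0, 1, 1, 2, 7, 8, 10, 11] 15861051662921055477196047734341228599644828 (by decide +kernel) rep_step1 (by decide +kernel) (by decide +kernel) rfl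

theorem rep_step5 : J4Dce59.env.w J4Dce59.Data.D 5 = ((repPath 5).map letEl).prod :=
  rep_of_step 4 2 [1, 1] 11152519528785069069801346756252547099710159 (by decide +kernel) rep_step2 (by decide +kernel) (by decide +kernel) rfl

theorem rep_step6 : J4Dce59.env.w J4Dce59.Data.D 6 = ((repPath 6).map letEl).prod :=
  rep_of_step 5 2 [0, 1, 1] 11151058482962433641666625110499425732468748 (by decide +kernel) rep_step2 (by decide +kernel) (by decide +kernel) rfl

/-- The vector data of one representative. -/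
theorem vecData_of_path {w : JG} {p : List ℕ} {pv qw : ℕ} {sw : List ℕ}
    (hw : w = (p.map letEl).prod) (h : pathOK p pv qw sw = true) : VecData w pv qw sw := by
  subst hw
  simp only [pathOK, Bool.and_eq_true] at h
  obtain ⟨⟨h1, h2⟩, h3⟩ := h
  exact ⟨by rw [pathVec_spec, Nat.eq_of_beq_eq_true h1], by rw [pathVec_spec, Nat.eq_of_beq_eq_true h2],
    fun a ha => ⟨pathVec p a, memL_spec (List.all_eq_true.1 h3 a ha), pathVec_spec p a⟩⟩

theorem orbSize_eq : ∀ j : Fin 7, orbSize j = J4Dce59.szs j := by decide +kernel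

theorem card_le_orbit_mul (j : Fin 7) :
    Nat.card hSub ≤ orbSize j * Nat.card (meetConj hSub (J4Dce59.env.w J4Dce59.Data.D j)) := by
  classical
  rw [hSub_eq]
  set H := J4Dce59.env.H
  set w := J4Dce59.env.w J4Dce59.Data.D j
  set x := J4Dce59.env.pt J4Dce59.Data.D j
  have horb : MulAction.orbit H x = J4Dce59.Orbit j := by
    ext y
    constructor
    · rintro ⟨h, rfl⟩
      exact ⟨h, h.2, rfl⟩
    · rintro ⟨h, hh, rfl⟩
      exact ⟨⟨h, hh⟩, rfl⟩
  have hstab : MulAction.stabilizer H x = (meetConj H w).subgroupOf H := by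
    ext s
    rw [MulAction.mem_stabilizer_iff, mem_subgroupOf, mem_meetConj]
    show (((s : JG) * w⁻¹ : JG) : J4Dce59.env.Pts) = ((w⁻¹ : JG) : J4Dce59.env.Pts) ↔ _
    rw [QuotientGroup.eq, mul_inv_rev, inv_inv, and_iff_right s.2, ← H.inv_mem_iff]
    rw [mul_inv_rev, mul_inv_rev, inv_inv, inv_inv, ← mul_assoc]
  have hle : meetConj H w ≤ H := inf_le_left
  have h1 := (MulAction.stabilizer H x).card_mul_index
  rw [MulAction.index_stabilizer, horb, J4Dce59.ncard_orbit j.isLt, ← orbSize_eq, hstab,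
    Nat.card_congr (subgroupOfEquivOfLe hle).toEquiv] at h1
  rw [Nat.mul_comm]
  exact h1.ge

theorem cover_dc (g : JG) : ∃ j : Fin 7, ∃ a ∈ hSub, ∃ b ∈ hSub,
    g = a * J4Dce59.env.w J4Dce59.Data.D j * b := by
  rw [hSub_eq]
  obtain ⟨j, hj, h, hh, e⟩ := J4Dce59.cover_orbit ((g⁻¹ : JG) : J4Dce59.env.Pts)
  change ((g⁻¹ : JG) : J4Dce59.env.Pts) =
    ((h * (J4Dce59.env.w J4Dce59.Data.D j)⁻¹ : JG) : J4Dce59.env.Pts) at e
  rw [QuotientGroup.eq, inv_inv] at e
  refine ⟨⟨j, hj⟩, g * (h * (J4Dce59.env.w J4Dce59.Data.D j)⁻¹), e, h⁻¹, inv_mem hh, ?_⟩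
  group

/-- All the data. -/
theorem dcData : DCData where
  simple := J4Dce59.isSimple_J
  finite := J4Dce59.finite_J
  card := J4Dce59.card_J
  cardH := by rw [hSub_eq]; exact J4Dce59.card_H
  reps := ⟨fun j => J4Dce59.env.w J4Dce59.Data.D j, cover_dc, card_le_orbit_mul,
    vecData_of_path rep_step1 pathOK1, vecData_of_path rep_step2 pathOK2,
    vecData_of_path rep_step3 pathOK3, vecData_of_path rep_step4 pathOK4,
    vecData_of_path rep_step5 pathOK5, vecData_of_path rep_step6 pathOK6⟩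

end Cfsg.Agent.Lib.J4Cent18
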