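import Cfsg.Agent.Lib.J4Cent18.EDef

/-! Squares and commutation of the eleven involutions. -/

set_option autoImplicit false
set_option maxRecDepth 100000

namespace Cfsg.Agent.Lib.J4Cent18

open Cfsg.Agent.Lib Cfsg.Agent.Lib.J4Rep72

theorem e_sq_check : ((List.range 11).all fun i => eqL (mulM (eMat i) (eMat i)) oneM) = true := by
  decide +kernel

theorem e_comm_check : ((List.range 11).all fun i => (List.range i).all fun j =>
    eqL (mulM (eMat i) (eMat j)) (mulM (eMat j) (eMat i))) = true := by decide +kernel

theorem en_sq (hinj : Function.Injective rep) (i : ℕ) (hi : i < 11) : en i * en i = 1 :=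
  ((mc_en i).mul (mc_en i)).eq hinj Mc.one' (List.all_eq_true.1 e_sq_check i (List.mem_range.2 hi))

theorem en_comm (hinj : Function.Injective rep) (i j : ℕ) (hi : i < 11) (hj : j < 11) :
    Commute (en i) (en j) := by
  have key : ∀ a b, a < 11 → b < a → Commute (en a) (en b) := fun a b ha hb =>
    ((mc_en a).mul (mc_en b)).eq hinj ((mc_en b).mul (mc_en a))
      (List.all_eq_true.1 (List.all_eq_true.1 e_comm_check a (List.mem_range.2 ha)) b
        (List.mem_range.2 hb))
  rcases Nat.lt_trichotomy i j with h | rfl | h
  · exact (key j i hj h).symm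
  · exact Commute.refl _
  · exact key i j hi h

end Cfsg.Agent.Lib.J4Cent18
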