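import Cfsg.Agent.Lib.J4Cent18.EDef

/-! Conjugation of the eleven involutions by `Y`. -/

set_option autoImplicit false
set_option maxRecDepth 100000

namespace Cfsg.Agent.Lib.J4Cent18

open Cfsg.Agent.Lib Cfsg.Agent.Lib.J4Rep72

theorem e_conjY_check : ((List.range 11).all fun i =>
    eqL (mulM (eMat i) J4Rep72.matY) (mulM J4Rep72.matY (evMat 11 (linY.getD i 0)))) = true := by decide +kernel

theorem en_conjY (hinj : Function.Injective rep) (i : ℕ) (hi : i < 11) :
    gy⁻¹ * en i * gy = evBits en 11 (linY.getD i 0) := by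
  rw [mul_assoc, inv_mul_eq_iff_eq_mul]
  exact ((mc_en i).mul mc_y).eq hinj (mc_y.mul (mc_evBits 11 _))
    (List.all_eq_true.1 e_conjY_check i (List.mem_range.2 hi))

end Cfsg.Agent.Lib.J4Cent18
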