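import Cfsg.Agent.Lib.J4Cent18.Nodes3
import Cfsg.Agent.Lib.J4Cent18.Bits

/-! The eleven commuting involutions and their codes. -/

set_option autoImplicit false
set_option maxRecDepth 100000

namespace Cfsg.Agent.Lib.J4Cent18

open Cfsg.Agent.Lib Cfsg.Agent.Lib.J4Rep72

/-- The eleven involutions. -/
def en : ℕ → JG
  | 0 => el44
  | 1 => el51
  | 2 => el57
  | 3 => el61
  | 4 => el66
  | 5 => el71
  | 6 => el74
  | 7 => el77
  | 8 => el81
  | 9 => el83
  | 10 => el88
  | _ => 1

/-- Their matrices. -/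
def eMat : ℕ → List ℕ
  | 0 => mat44
  | 1 => mat51
  | 2 => mat57
  | 3 => mat61
  | 4 => mat66
  | 5 => mat71
  | 6 => mat74
  | 7 => mat77
  | 8 => mat81
  | 9 => mat83
  | 10 => mat88
  | _ => oneM

theorem mc_en : ∀ i, Mc (en i) (eMat i)
  | 0 => mc44
  | 1 => mc51
  | 2 => mc57
  | 3 => mc61
  | 4 => mc66
  | 5 => mc71
  | 6 => mc74
  | 7 => mc77
  | 8 => mc81
  | 9 => mc83
  | 10 => mc88
  | _ + 11 => Mc.one'

/-- The images of the coordinates under `x` and `y`. -/
def linX : List ℕ := [12, 516, 4, 5, 1179, 1767, 587, 990, 1933, 6, 1368]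

def linY : List ℕ := [1394, 495, 489, 485, 509, 567, 461, 492, 1226, 1201, 1517]

/-- The element with coordinates `c`. -/
def ev (c : ℕ) : JG := evBits en 11 c

/-- Its matrix. -/
noncomputable def evMat : ℕ → ℕ → List ℕ
  | 0, _ => oneM
  | k + 1, c => cond (Nat.testBit c k) (mulM (evMat k c) (eMat k)) (evMat k c)

theorem mc_evBits : ∀ k c, Mc (evBits en k c) (evMat k c)
  | 0, _ => Mc.one'
  | k + 1, c => by
    show Mc (evBits en k c * pick en c k) (evMat (k + 1) c)
    unfold pick
    rw [evMat]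
    cases c.testBit k
    · simpa using mc_evBits k c
    · simpa using (mc_evBits k c).mul (mc_en k)

end Cfsg.Agent.Lib.J4Cent18
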