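import Cfsg.Agent.Lib.J4Cent18.EDef

/-! The eleven involutions lie in the subgroup of `x`, `y` and `u`. -/

set_option autoImplicit false

namespace Cfsg.Agent.Lib.J4Cent18

/-- The involution `u`. -/
abbrev gu : JG := el26

/-- The subgroup `2^11:M24`. -/
def hSub : Subgroup JG := Subgroup.closure {gx, gy, gu}

theorem gx_mem : gx ∈ hSub := Subgroup.subset_closure (by simp)

theorem gy_mem : gy ∈ hSub := Subgroup.subset_closure (by simp)

theorem u_mem : el26 ∈ hSub := Subgroup.subset_closure (by simp)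

theorem mem3 : el3 ∈ hSub := hSub.mul_mem gy_mem gy_mem

theorem mem27 : el27 ∈ hSub := hSub.mul_mem gx_mem u_mem

theorem mem28 : el28 ∈ hSub := hSub.mul_mem mem27 gx_mem

theorem mem29 : el29 ∈ hSub := hSub.mul_mem mem3 mem28

theorem mem30 : el30 ∈ hSub := hSub.mul_mem mem29 gy_mem

theorem mem31 : el31 ∈ hSub := hSub.mul_mem gx_mem mem30

theorem mem32 : el32 ∈ hSub := hSub.mul_mem mem31 gx_mem

theorem mem33 : el33 ∈ hSub := hSub.mul_mem mem3 mem30

theorem mem34 : el34 ∈ hSub := hSub.mul_mem mem33 gy_mem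

theorem mem35 : el35 ∈ hSub := hSub.mul_mem mem3 mem32

theorem mem36 : el36 ∈ hSub := hSub.mul_mem mem35 gy_mem

theorem mem37 : el37 ∈ hSub := hSub.mul_mem gx_mem mem36

theorem mem38 : el38 ∈ hSub := hSub.mul_mem mem37 gx_mem

theorem mem39 : el39 ∈ hSub := hSub.mul_mem u_mem mem28

theorem mem40 : el40 ∈ hSub := hSub.mul_mem mem39 mem30

theorem mem41 : el41 ∈ hSub := hSub.mul_mem mem40 mem32

theorem mem42 : el42 ∈ hSub := hSub.mul_mem mem41 mem34

theorem mem43 : el43 ∈ hSub := hSub.mul_mem mem42 mem36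

theorem mem44 : el44 ∈ hSub := hSub.mul_mem mem43 mem38

theorem mem45 : el45 ∈ hSub := hSub.mul_mem mem3 mem36

theorem mem46 : el46 ∈ hSub := hSub.mul_mem mem45 gy_mem

theorem mem47 : el47 ∈ hSub := hSub.mul_mem gx_mem mem46

theorem mem48 : el48 ∈ hSub := hSub.mul_mem mem47 gx_mem

theorem mem49 : el49 ∈ hSub := hSub.mul_mem mem3 mem48

theorem mem50 : el50 ∈ hSub := hSub.mul_mem mem49 gy_mem

theorem mem51 : el51 ∈ hSub := hSub.mul_mem mem41 mem50

theorem mem52 : el52 ∈ hSub := hSub.mul_mem gx_mem mem34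

theorem mem53 : el53 ∈ hSub := hSub.mul_mem mem52 gx_mem

theorem mem54 : el54 ∈ hSub := hSub.mul_mem mem39 mem34

theorem mem55 : el55 ∈ hSub := hSub.mul_mem mem54 mem36

theorem mem56 : el56 ∈ hSub := hSub.mul_mem mem55 mem53

theorem mem57 : el57 ∈ hSub := hSub.mul_mem mem56 mem50

theorem mem58 : el58 ∈ hSub := hSub.mul_mem mem30 mem32

theorem mem59 : el59 ∈ hSub := hSub.mul_mem mem58 mem34

theorem mem60 : el60 ∈ hSub := hSub.mul_mem mem59 mem38

theorem mem61 : el61 ∈ hSub := hSub.mul_mem mem60 mem50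

theorem mem62 : el62 ∈ hSub := hSub.mul_mem u_mem mem30

theorem mem63 : el63 ∈ hSub := hSub.mul_mem mem62 mem32

theorem mem64 : el64 ∈ hSub := hSub.mul_mem mem63 mem53

theorem mem65 : el65 ∈ hSub := hSub.mul_mem mem64 mem46

theorem mem66 : el66 ∈ hSub := hSub.mul_mem mem65 mem50

theorem mem67 : el67 ∈ hSub := hSub.mul_mem mem62 mem53

theorem mem68 : el68 ∈ hSub := hSub.mul_mem mem67 mem38

theorem mem69 : el69 ∈ hSub := hSub.mul_mem mem68 mem46

theorem mem70 : el70 ∈ hSub := hSub.mul_mem mem69 mem48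

theorem mem71 : el71 ∈ hSub := hSub.mul_mem mem70 mem50

theorem mem72 : el72 ∈ hSub := hSub.mul_mem mem42 mem38

theorem mem73 : el73 ∈ hSub := hSub.mul_mem mem72 mem46

theorem mem74 : el74 ∈ hSub := hSub.mul_mem mem73 mem48

theorem mem75 : el75 ∈ hSub := hSub.mul_mem mem62 mem38

theorem mem76 : el76 ∈ hSub := hSub.mul_mem mem75 mem48

theorem mem77 : el77 ∈ hSub := hSub.mul_mem mem76 mem50

theorem mem78 : el78 ∈ hSub := hSub.mul_mem u_mem mem36

theorem mem79 : el79 ∈ hSub := hSub.mul_mem mem78 mem53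

theorem mem80 : el80 ∈ hSub := hSub.mul_mem mem79 mem38

theorem mem81 : el81 ∈ hSub := hSub.mul_mem mem80 mem46

theorem mem82 : el82 ∈ hSub := hSub.mul_mem mem59 mem53

theorem mem83 : el83 ∈ hSub := hSub.mul_mem mem82 mem38

theorem mem84 : el84 ∈ hSub := hSub.mul_mem mem28 mem32

theorem mem85 : el85 ∈ hSub := hSub.mul_mem mem84 mem34

theorem mem86 : el86 ∈ hSub := hSub.mul_mem mem85 mem53

theorem mem87 : el87 ∈ hSub := hSub.mul_mem mem86 mem46

theorem mem88 : el88 ∈ hSub := hSub.mul_mem mem87 mem50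

theorem mem89 : el89 ∈ hSub := hSub.mul_mem mem44 mem51

theorem mem90 : el90 ∈ hSub := hSub.mul_mem mem89 mem57

theorem en_mem : ∀ i, i < 11 → en i ∈ hSub
  | 0, _ => mem44
  | 1, _ => mem51
  | 2, _ => mem57
  | 3, _ => mem61
  | 4, _ => mem66
  | 5, _ => mem71
  | 6, _ => mem74
  | 7, _ => mem77
  | 8, _ => mem81
  | 9, _ => mem83
  | 10, _ => mem88
  | n + 11, h => absurd h (by omega)

end Cfsg.Agent.Lib.J4Cent18
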