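import Mathlib
import Cfsg.Agent.Lib.LargeES.Heisenberg

/-!
# Extraspecial two-groups given by generators and a commutator form

Elements `q i` with squares and commutators in a central subgroup `⟨z⟩` of order two, whose
commutator form has an inverse matrix, generate together with `z` an extraspecial group of order
`2 ^ (n + 1)`.
-/

set_option autoImplicit false

namespace Cfsg.Agent.Lib.J4Cent18

open Subgroup

section Bound

variable {G : Type*} [Group G]

/-- A subgroup and one more element with square inside, normalising it. -/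
theorem exists_sup_bound [Finite G] (H : Subgroup G) (a : G) (ha : a * a ∈ H)
    (hc : ∀ h ∈ H, a * h * a⁻¹ ∈ H) :
    ∃ K : Subgroup G, H ≤ K ∧ a ∈ K ∧ Nat.card K ≤ 2 * Nat.card H ∧
      (K : Set G) ⊆ (closure (insert a (H : Set G)) : Set G) := by
  classical
  refine ⟨closure (insert a (H : Set G)), fun h hh => subset_closure (Set.mem_insert_of_mem _ hh),
    subset_closure (Set.mem_insert _ _), ?_, subset_rfl⟩
  have key : ∀ g ∈ closure (insert a (H : Set G)), g ∈ H ∨ g * a ∈ H := by
    intro g hg
    have hc' : ∀ h ∈ H, a⁻¹ * h * a ∈ H := by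
      intro h hh
      have h1 := hc h hh
      have e : a⁻¹ * h * a = (a * a)⁻¹ * (a * h * a⁻¹) * (a * a) := by group
      rw [e]
      exact mul_mem (mul_mem (inv_mem ha) h1) ha
    induction hg using closure_induction_left with
    | one => exact Or.inl (one_mem _)
    | mul_left x hx y _ ih =>
      rcases hx with rfl | hx
      · rcases ih with h | h
        · refine Or.inr ?_
          have e : x * y * x = (x * y * x⁻¹) * (x * x) := by group
          rw [e]; exact mul_mem (hc y h) ha
        · refine Or.inl ?_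
          have e : x * y = (x * (y * x) * x⁻¹) := by group
          rw [e]; exact hc _ h
      · rcases ih with h | h
        · exact Or.inl (mul_mem hx h)
        · exact Or.inr (by rw [mul_assoc]; exact mul_mem hx h)
    | inv_mul_cancel x hx y _ ih =>
      rcases hx with rfl | hx
      · rcases ih with h | h
        · refine Or.inr ?_
          exact hc' y h
        · refine Or.inl ?_
          have e : x⁻¹ * y = (x⁻¹ * (y * x) * x) * (x * x)⁻¹ := by group
          rw [e]; exact mul_mem (hc' _ h) (inv_mem ha)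
      · rcases ih with h | h
        · exact Or.inl (mul_mem (inv_mem hx) h)
        · exact Or.inr (by rw [mul_assoc]; exact mul_mem (inv_mem hx) h)
  have hsub : (closure (insert a (H : Set G)) : Set G) ⊆ (H : Set G) ∪ ((fun x => x * a⁻¹) '' H) := by
    intro g hg
    rcases key g hg with h | h
    · exact Or.inl h
    · exact Or.inr ⟨g * a, h, by simp⟩
  calc Nat.card (closure (insert a (H : Set G)))
      = ((closure (insert a (H : Set G)) : Set G)).ncard := (Nat.card_coe_set_eq _)
    _ ≤ ((H : Set G) ∪ ((fun x => x * a⁻¹) '' H)).ncard := Set.ncard_le_ncard hsub (Set.toFinite _)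
    _ ≤ (H : Set G).ncard + ((fun x => x * a⁻¹) '' (H : Set G)).ncard := Set.ncard_union_le _ _
    _ ≤ (H : Set G).ncard + (H : Set G).ncard := Nat.add_le_add_left (Set.ncard_image_le (Set.toFinite _)) _
    _ = 2 * Nat.card H := by rw [two_mul, ← Nat.card_coe_set_eq]; rfl

end Bound

variable {G : Type*} [Group G] [Finite G] {n : ℕ} {z : G} {q : Fin n → G}
  {B Binv : Fin n → Fin n → ZMod 2}

/-- The hypotheses: centrality, squares, the commutator form and an inverse matrix of it. -/
structure Gens (z : G) (q : Fin n → G) (B Binv : Fin n → Fin n → ZMod 2) : Prop where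
  order : orderOf z = 2
  central : ∀ i, q i * z = z * q i
  sq : ∀ i, q i * q i = 1 ∨ q i * q i = z
  comm : ∀ i j, q i * q j = (if B i j = 0 then 1 else z) * (q j * q i)
  inverse : ∀ i k, ∑ j, Binv i j * B j k = if i = k then 1 else 0

/-- The group they generate. -/
def gensGroup (z : G) (q : Fin n → G) : Subgroup G := closure (insert z (Set.range q))

namespace Gens

variable (h : Gens z q B Binv)
include h

omit [Finite G] in
theorem z_sq : z * z = 1 := by
  rw [← pow_two, ← h.order]; exact pow_orderOf_eq_one z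

omit [Finite G] in
theorem z_ne : z ≠ 1 := fun e => by
  have := h.order
  rw [e, orderOf_one] at this
  omega

omit [Finite G] in
theorem mem_zpowers_iff {x : G} : x ∈ zpowers z ↔ x = 1 ∨ x = z := by
  constructor
  · rintro ⟨k, rfl⟩
    rcases Int.even_or_odd k with ⟨m, rfl⟩ | ⟨m, rfl⟩
    · left
      show z ^ (m + m) = 1
      rw [← two_mul, zpow_mul, zpow_two, h.z_sq, one_zpow]
    · right
      show z ^ (2 * m + 1) = z
      rw [zpow_add, zpow_mul, zpow_two, h.z_sq, one_zpow, one_mul, zpow_one]
  · rintro (h1 | h1) <;> rw [h1]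
    exacts [one_mem _, mem_zpowers z]

omit [Finite G] in
theorem z_central {x : G} (hx : x ∈ gensGroup z q) : x * z = z * x := by
  have hle : gensGroup z q ≤ centralizer ({z} : Set G) := by
    rw [gensGroup, closure_le]
    rintro y (rfl | ⟨i, rfl⟩)
    · exact mem_centralizer_singleton_iff.2 rfl
    · exact mem_centralizer_singleton_iff.2 (h.central i)
  exact mem_centralizer_singleton_iff.1 (hle hx)

omit [Finite G] in
theorem conj_mem (i : Fin n) (j : Fin n) : q i * q j * (q i)⁻¹ * (q j)⁻¹ ∈ zpowers z := by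
  rw [h.comm i j, h.mem_zpowers_iff]
  split
  · left; group
  · right; group

theorem card_le_aux : ∀ (m : ℕ) (hm : m ≤ n), ∃ K : Subgroup G,
    z ∈ K ∧ (∀ i : Fin n, i.val < m → q i ∈ K) ∧ Nat.card K ≤ 2 ^ (m + 1) ∧
      (K : Set G) ⊆ (gensGroup z q : Set G) := by
  intro m hm
  induction m with
  | zero =>
    refine ⟨zpowers z, mem_zpowers z, fun i hi => absurd hi (by omega), ?_, ?_⟩
    · rw [Nat.card_zpowers, h.order]; norm_num
    · exact (zpowers_le (H := gensGroup z q)).2 (subset_closure (Set.mem_insert _ _))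
  | succ m ih =>
    obtain ⟨K, hz, hq, hc, hs⟩ := ih (by omega)
    set a := q ⟨m, by omega⟩ with ha
    have hzK : zpowers z ≤ K := zpowers_le.2 hz
    have hnorm : ∀ x ∈ K, a * x * a⁻¹ ∈ K := by
      intro x hx
      suffices a * x * a⁻¹ * x⁻¹ ∈ K by
        have e : a * x * a⁻¹ = (a * x * a⁻¹ * x⁻¹) * x := by group
        rw [e]; exact mul_mem this hx
      have hxg : x ∈ gensGroup z q := hs hx
      have hle : ∀ y ∈ gensGroup z q, a * y * a⁻¹ * y⁻¹ ∈ zpowers z := by
        intro y hy
        induction hy using closure_induction with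
        | mem y hy =>
          rcases hy with hy | ⟨j, rfl⟩
          · rw [hy, ha, h.central, mul_inv_cancel_right, mul_inv_cancel]
            exact one_mem _
          · exact h.conj_mem _ j
        | one => simp
        | mul u v hu _ iu iv =>
          have e : a * (u * v) * a⁻¹ * (u * v)⁻¹ =
              (a * u * a⁻¹ * u⁻¹) * (u * (a * v * a⁻¹ * v⁻¹) * u⁻¹) := by group
          rw [e]
          refine mul_mem iu ?_
          rcases h.mem_zpowers_iff.1 iv with e1 | e1 <;> rw [e1]
          · simp
          · rw [h.z_central hu]; simp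
        | inv u hu iu =>
          have e : a * u⁻¹ * a⁻¹ * u⁻¹⁻¹ = u⁻¹ * (a * u * a⁻¹ * u⁻¹)⁻¹ * u := by group
          rw [e]
          rcases h.mem_zpowers_iff.1 iu with e1 | e1 <;> rw [e1]
          · simp
          · have := h.z_central hu
            have hz2 : z⁻¹ = z := inv_eq_of_mul_eq_one_right h.z_sq
            rw [hz2, mul_assoc, ← this, inv_mul_cancel_left]
            exact mem_zpowers z
      exact hzK (hle x hxg)
    have hsq : a * a ∈ K := hzK (h.mem_zpowers_iff.2 (h.sq _))
    obtain ⟨L, hKL, haL, hcard, hsub⟩ := exists_sup_bound K a hsq hnorm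
    refine ⟨L, hKL hz, fun i hi => ?_, ?_, ?_⟩
    · rcases Nat.lt_or_ge i.val m with hlt | hge
      · exact hKL (hq i hlt)
      · have : i = ⟨m, by omega⟩ := Fin.ext (le_antisymm (Nat.lt_succ_iff.1 hi) hge)
        rw [this]; exact haL
    · calc Nat.card L ≤ 2 * Nat.card K := hcard
        _ ≤ 2 * 2 ^ (m + 1) := Nat.mul_le_mul_left _ hc
        _ = 2 ^ (m + 1 + 1) := by ring
    · refine hsub.trans ?_
      show Subgroup.closure _ ≤ gensGroup z q
      rw [closure_le]
      rintro x (rfl | hx)
      · exact subset_closure (Set.mem_insert_of_mem _ ⟨_, rfl⟩)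
      · exact hs hx

theorem card_le : Nat.card (gensGroup z q) ≤ 2 ^ (n + 1) := by
  obtain ⟨K, hz, hq, hc, hs⟩ := h.card_le_aux n le_rfl
  refine le_trans (card_le_of_le ?_) hc
  rw [gensGroup, closure_le]
  rintro x (rfl | ⟨i, rfl⟩)
  exacts [hz, hq i i.isLt]

omit [Finite G] in
theorem comm_z {x : G} (hx : x ∈ gensGroup z q) (j : Fin n) :
    x * q j = q j * x ∨ x * q j = z * (q j * x) := by
  induction hx using closure_induction with
  | mem y hy =>
    rcases hy with rfl | ⟨i, rfl⟩
    · exact Or.inl (h.central j).symm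
    · rw [h.comm i j]
      split <;> simp
  | one => simp
  | mul u v hu hv iu iv =>
    rcases iu with e | e <;> rcases iv with e' | e'
    · left; rw [mul_assoc, e', ← mul_assoc, e, mul_assoc]
    · right; rw [mul_assoc, e', ← mul_assoc u z, h.z_central hu, mul_assoc, ← mul_assoc u, e, mul_assoc]
    · right; rw [mul_assoc, e', ← mul_assoc, e]; simp only [mul_assoc]
    · left
      rw [mul_assoc, e', ← mul_assoc u z, h.z_central hu, mul_assoc, ← mul_assoc u, e]
      rw [← mul_assoc, ← mul_assoc, h.z_sq, one_mul, mul_assoc]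
  | inv u hu iu =>
    rcases iu with e | e
    · left
      calc u⁻¹ * q j = u⁻¹ * (q j * u) * u⁻¹ := by group
        _ = q j * u⁻¹ := by rw [← e]; group
    · right
      have e2 : q j * u = z * (u * q j) := by
        rw [e, ← mul_assoc, h.z_sq, one_mul]
      calc u⁻¹ * q j = u⁻¹ * (q j * u) * u⁻¹ := by group
        _ = u⁻¹ * z * u * (q j * u⁻¹) := by rw [e2]; group
        _ = z * (q j * u⁻¹) := by
          rw [mul_assoc u⁻¹, ← h.z_central hu, inv_mul_cancel_left]

omit [Finite G] in
/-- The commutator pairing. -/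
theorem exists_pairing : ∃ f : ↥(gensGroup z q) →* Multiplicative (Fin n → ZMod 2),
    (∀ x : ↥(gensGroup z q), f x = 1 ↔ ∀ j, (x : G) * q j = q j * x) ∧
    ∀ i, f ⟨q i, subset_closure (Set.mem_insert_of_mem _ ⟨i, rfl⟩)⟩ = Multiplicative.ofAdd (B i) := by
  classical
  let b : ↥(gensGroup z q) → Fin n → ZMod 2 := fun x j => if (x : G) * q j = q j * x then 0 else 1
  have hb : ∀ x y, b (x * y) = b x + b y := by
    intro x y
    funext j
    have hz1 := h.z_ne
    have nz : ∀ u : G, u ≠ z * u := fun u e => hz1 (by simpa using (mul_eq_right.1 e.symm))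
    have key : ∀ u : G, u ∈ gensGroup z q →
        (if u * q j = q j * u then (0 : ZMod 2) else 1) = 0 ∧ u * q j = q j * u ∨
        (if u * q j = q j * u then (0 : ZMod 2) else 1) = 1 ∧ u * q j = z * (q j * u) := by
      intro u hu
      rcases h.comm_z hu j with e | e
      · exact Or.inl ⟨if_pos e, e⟩
      · exact Or.inr ⟨if_neg fun e' => nz _ (e'.symm.trans e), e⟩
    show (if ((x * y : ↥(gensGroup z q)) : G) * q j = q j * (x * y : ↥(gensGroup z q)) then
      (0 : ZMod 2) else 1) = b x j + b y j
    simp only [b, Subgroup.coe_mul]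
    rcases key x x.2 with ⟨hx, ex⟩ | ⟨hx, ex⟩ <;> rcases key y y.2 with ⟨hy, ey⟩ | ⟨hy, ey⟩ <;>
      rw [hx, hy]
    · rw [if_pos]; · simp
      rw [mul_assoc, ey, ← mul_assoc, ex, mul_assoc]
    · rw [if_neg]; · simp
      intro e
      apply nz (q j * ((x : G) * y))
      calc q j * ((x : G) * y) = (x : G) * y * q j := e.symm
        _ = (x : G) * (z * (q j * y)) := by rw [mul_assoc, ey]
        _ = z * ((x : G) * (q j * y)) := by rw [← mul_assoc, h.z_central x.2, mul_assoc]
        _ = z * (q j * ((x : G) * y)) := by rw [← mul_assoc (x : G), ex, mul_assoc]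
    · rw [if_neg]; · simp
      intro e
      apply nz (q j * ((x : G) * y))
      calc q j * ((x : G) * y) = (x : G) * y * q j := e.symm
        _ = (x : G) * (q j * y) := by rw [mul_assoc, ey]
        _ = z * (q j * ((x : G) * y)) := by rw [← mul_assoc, ex]; simp only [mul_assoc]
    · rw [if_pos]
      · decide
      calc (x : G) * y * q j = (x : G) * (z * (q j * y)) := by rw [mul_assoc, ey]
        _ = z * ((x : G) * (q j * y)) := by rw [← mul_assoc, h.z_central x.2, mul_assoc]
        _ = z * (z * (q j * ((x : G) * y))) := by rw [← mul_assoc (x : G), ex]; simp only [mul_assoc]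
        _ = q j * ((x : G) * y) := by rw [← mul_assoc, h.z_sq, one_mul]
  refine ⟨{ toFun := fun x => Multiplicative.ofAdd (b x), map_one' := ?_, map_mul' := ?_ },
    fun x => ?_, fun i => ?_⟩
  · exact Multiplicative.toAdd.injective (funext fun j => by simp [b])
  · intro x y; rw [hb]; rfl
  · show Multiplicative.ofAdd (b x) = 1 ↔ _
    rw [← ofAdd_zero, Equiv.apply_eq_iff_eq, funext_iff]
    refine forall_congr' fun j => ?_
    simp only [b, Pi.zero_apply]
    split <;> simp_all
  · show Multiplicative.ofAdd (b _) = _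
    congr 1
    funext j
    simp only [b]
    have hc := h.comm i j
    by_cases hB : B i j = 0
    · rw [if_pos hB, one_mul] at hc
      rw [if_pos hc, hB]
    · have h1 : B i j = 1 := by
        have : ∀ a : ZMod 2, a ≠ 0 → a = 1 := by decide
        exact this _ hB
      rw [if_neg hB] at hc
      rw [if_neg, h1]
      intro e
      exact h.z_ne (by simpa using (mul_eq_right.1 (hc.symm.trans e)))

/-- Order and structure. -/
theorem card_and_extraspecial (hn : 0 < n) :
    Nat.card (gensGroup z q) = 2 ^ (n + 1) ∧ Cfsg.IsExtraspecial 2 ↥(gensGroup z q) := by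
  classical
  obtain ⟨f, hker, himg⟩ := h.exists_pairing
  have hzK : z ∈ gensGroup z q := subset_closure (Set.mem_insert _ _)
  have hqK : ∀ i, q i ∈ gensGroup z q := fun i => subset_closure (Set.mem_insert_of_mem _ ⟨i, rfl⟩)
  have hsurj : Function.Surjective f := by
    have hmem : ∀ v : Fin n → ZMod 2, Multiplicative.ofAdd v ∈ f.range := by
      intro v
      let e : Fin n → ZMod 2 := fun j => ∑ i, v i * Binv i j
      have hv : v = ∑ j, e j • B j := by
        funext k
        simp only [e, Finset.sum_apply, Pi.smul_apply, smul_eq_mul, Finset.sum_mul]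
        rw [Finset.sum_comm]
        simp only [mul_assoc, ← Finset.mul_sum, h.inverse, mul_ite, mul_one, mul_zero,
          Finset.sum_ite_eq', Finset.mem_univ, if_true]
      rw [hv, ofAdd_sum]
      refine prod_mem fun j _ => ?_
      have : ∀ a : ZMod 2, a = 0 ∨ a = 1 := by decide
      rcases this (e j) with h0 | h0 <;> rw [h0]
      · simp
      · rw [one_smul]; exact ⟨_, himg j⟩
    intro v
    exact hmem (Multiplicative.toAdd v)
  have hzker : (⟨z, hzK⟩ : ↥(gensGroup z q)) ∈ f.ker :=
    MonoidHom.mem_ker.2 ((hker _).2 fun j => (h.central j).symm)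
  have hcard := f.ker.card_mul_index
  rw [Subgroup.index_ker, MonoidHom.range_eq_top.2 hsurj, Subgroup.card_top] at hcard
  have hv : Nat.card (Multiplicative (Fin n → ZMod 2)) = 2 ^ n := by
    rw [Nat.card_congr Multiplicative.toAdd, Nat.card_pi]; simp
  rw [hv] at hcard
  have hk2 : 2 ≤ Nat.card f.ker := by
    refine Finite.one_lt_card_iff_nontrivial.2 ⟨⟨1, ⟨_, hzker⟩, fun e => h.z_ne ?_⟩⟩
    have := congrArg (fun u : f.ker => ((u : ↥(gensGroup z q)) : G)) e
    simpa using this.symm
  have hle := h.card_le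
  have hker2 : Nat.card f.ker = 2 := by
    have h2 : 0 < 2 ^ n := by positivity
    have : Nat.card f.ker * 2 ^ n ≤ 2 * 2 ^ n := by
      rw [hcard]; calc _ ≤ 2 ^ (n + 1) := hle
        _ = 2 * 2 ^ n := by ring
    have := Nat.le_of_mul_le_mul_right this h2
    omega
  have hK : Nat.card (gensGroup z q) = 2 ^ (n + 1) := by rw [← hcard, hker2]; ring
  refine ⟨hK, ?_⟩
  have hcases : ∀ x : ↥(gensGroup z q), x ∈ f.ker → x = 1 ∨ x = ⟨z, hzK⟩ := by
    intro x hx
    have hne : (⟨1, one_mem _⟩ : f.ker) ≠ ⟨⟨z, hzK⟩, hzker⟩ := fun e =>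
      h.z_ne (by simpa using (congrArg (fun u : f.ker => ((u : ↥(gensGroup z q)) : G)) e).symm)
    rw [Nat.card_eq_two_iff] at hker2
    obtain ⟨u, v, huv, huniv⟩ := hker2
    have hm : ∀ w : f.ker, w = u ∨ w = v := fun w => by
      have := huniv ▸ Set.mem_univ w
      simpa using this
    rcases hm ⟨x, hx⟩ with e | e <;> rcases hm ⟨1, one_mem _⟩ with e1 | e1 <;>
      rcases hm ⟨⟨z, hzK⟩, hzker⟩ with e2 | e2 <;>
      first
        | exact absurd (e1.trans e2.symm) hne
        | exact Or.inl (congrArg Subtype.val (e.trans e1.symm))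
        | exact Or.inr (congrArg Subtype.val (e.trans e2.symm))
  have hcenter : ∀ x : ↥(gensGroup z q), x ∈ f.ker → x ∈ Subgroup.center ↥(gensGroup z q) := by
    intro x hx
    rcases hcases x hx with rfl | rfl
    · exact one_mem _
    · exact Subgroup.mem_center_iff.2 fun y => Subtype.ext (h.z_central y.2)
  have habel : ∀ a b : Multiplicative (Fin n → ZMod 2), a * b * a⁻¹ * b⁻¹ = 1 ∧ a ^ 2 = 1 := by
    intro a b
    refine ⟨by rw [mul_comm a b]; group, ?_⟩
    exact Multiplicative.toAdd.injective (funext fun j => by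
      simp only [toAdd_pow, Pi.smul_apply, toAdd_one, Pi.zero_apply]
      generalize Multiplicative.toAdd a j = c
      revert c; decide)
  obtain ⟨k₀, hk₀⟩ : ∃ k : Fin n, B ⟨0, hn⟩ k ≠ 0 := by
    by_contra hall
    push Not at hall
    have hcol : ∀ j, B j ⟨0, hn⟩ = 0 := fun j => by
      have h1 := h.comm ⟨0, hn⟩ j
      rw [if_pos (hall j), one_mul] at h1
      have h2 := h.comm j ⟨0, hn⟩
      by_contra hb
      rw [if_neg hb, h1] at h2
      exact h.z_ne (mul_eq_right.1 h2.symm)
    have := h.inverse ⟨0, hn⟩ ⟨0, hn⟩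
    simp [hcol] at this
  have hne : q ⟨0, hn⟩ * q k₀ ≠ q k₀ * q ⟨0, hn⟩ := by
    intro e
    have := h.comm ⟨0, hn⟩ k₀
    rw [if_neg hk₀, e] at this
    exact h.z_ne (by simpa using (mul_eq_right.1 this.symm))
  refine LargeES.Heisenberg.isExtraspecial_of_props (IsPGroup.of_card hK) (z := ⟨z, hzK⟩)
    (fun e => h.z_ne (congrArg Subtype.val e)) (hcenter _ hzker)
    (fun x hx => hcases x (MonoidHom.mem_ker.2 ((hker x).2 fun j =>
      (congrArg Subtype.val ((Subgroup.mem_center_iff.1 hx) ⟨q j, hqK j⟩)).symm)))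
    (fun x => hcenter _ (MonoidHom.mem_ker.2 (by rw [map_pow]; exact (habel (f x) 1).2)))
    (fun x y => hcenter _ (MonoidHom.mem_ker.2 (by
      rw [map_mul, map_mul, map_mul, map_inv, map_inv]; exact (habel (f x) (f y)).1)))
    (x := ⟨q ⟨0, hn⟩, hqK _⟩) (y := ⟨q k₀, hqK _⟩) (fun e => hne (congrArg Subtype.val e))

end Gens

end Cfsg.Agent.Lib.J4Cent18
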