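import Cfsg.Agent.Lib.J4Cent18.Points

/-! Checks for the kernel of the action on the 77 points. -/

set_option autoImplicit false
set_option maxRecDepth 100000

namespace Cfsg.Agent.Lib.J4Cent18

open Cfsg.Agent.Lib Cfsg.Agent.Lib.J4Rep72

/-- The generators of the extraspecial group after the central involution. -/
def qEl : ℕ → JG
  | 0 => el44
  | 1 => el51
  | 2 => el283
  | 3 => el284
  | 4 => el285
  | 5 => el286
  | 6 => el162
  | 7 => el173
  | 8 => el182
  | 9 => el184
  | 10 => el191
  | 11 => el201
  | _ => 1

/-- Their matrices. -/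
def qMat : ℕ → List ℕ
  | 0 => mat44
  | 1 => mat51
  | 2 => mat283
  | 3 => mat284
  | 4 => mat285
  | 5 => mat286
  | 6 => mat162
  | 7 => mat173
  | 8 => mat182
  | 9 => mat184
  | 10 => mat191
  | 11 => mat201
  | _ => oneM

theorem mc_q : ∀ i, Mc (qEl i) (qMat i)
  | 0 => mc44
  | 1 => mc51
  | 2 => mc283
  | 3 => mc284
  | 4 => mc285
  | 5 => mc286
  | 6 => mc162
  | 7 => mc173
  | 8 => mc182
  | 9 => mc184
  | 10 => mc191
  | 11 => mc201
  | _ + 12 => Mc.one'

/-- The central involution followed by the generators. -/
def qz : ℕ → JG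
  | 0 => el90
  | i + 1 => qEl i

/-- Their matrices. -/
def qzMat : ℕ → List ℕ
  | 0 => mat90
  | i + 1 => qMat i

theorem mc_qz : ∀ i, Mc (qz i) (qzMat i)
  | 0 => mc90
  | i + 1 => mc_q i

/-- The element of order three. -/
abbrev aThree : JG := el212

/-- Vectors moved by the involution and by the element of order three. -/
def probeTest : ℕ × ℕ := (1, 1)

/-- Products over bits. -/
noncomputable def qzProd : ℕ → ℕ → List ℕ
  | 0, _ => oneM
  | k + 1, c => cond (Nat.testBit c k) (mulM (qzProd k c) (qzMat k)) (qzProd k c)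

theorem mc_qzProd : ∀ k c, Mc (evBits qz k c) (qzProd k c)
  | 0, _ => Mc.one'
  | k + 1, c => by
    show Mc (evBits qz k c * pick qz c k) (qzProd (k + 1) c)
    unfold pick
    rw [qzProd]
    cases c.testBit k
    · simpa using mc_qzProd k c
    · simpa using (mc_qzProd k c).mul (mc_qz k)

/-- The commutator form. -/
def formB (i j : Fin 12) : ZMod 2 := if (formRows.getD i.val 0).testBit j.val then 1 else 0

/-- Its inverse. -/
def formBinv (i j : Fin 12) : ZMod 2 := if (formInvRows.getD i.val 0).testBit j.val then 1 else 0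

theorem form_inverse : ∀ i k, ∑ j, formBinv i j * formB j k = if i = k then 1 else 0 := by
  decide +kernel

theorem qCommute : ((List.range 12).all fun i =>
    eqL (mulM (qMat i) mat90) (mulM mat90 (qMat i))) = true := by decide +kernel

theorem qSquare : ((List.range 12).all fun i =>
    eqL (mulM (qMat i) (qMat i)) oneM || eqL (mulM (qMat i) (qMat i)) mat90) = true := by decide +kernel

theorem qForm : ((List.range 12).all fun i => (List.range i).all fun j =>
    cond (Nat.testBit (formRows.getD i 0) j)
      (Nat.testBit (formRows.getD j 0) i &&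
        eqL (mulM (qMat i) (qMat j)) (mulM mat90 (mulM (qMat j) (qMat i))))
      (!Nat.testBit (formRows.getD j 0) i &&
        eqL (mulM (qMat i) (qMat j)) (mulM (qMat j) (qMat i)))) = true := by decide +kernel

theorem qDiag : ((List.range 12).all fun i => !Nat.testBit (formRows.getD i 0) i) = true := by
  decide +kernel

theorem qConj : ((List.range 13).all fun i =>
    eqL (mulM mat212 (qzMat i)) (mulM (qzProd 13 (conjCoord.getD i 0)) mat212)) = true := by decide +kernel

theorem threeCube : (eqL (mulM (mulM mat212 mat212) mat212) oneM &&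
    eqL (mulM mat212 mat90) (mulM mat90 mat212)) = true := by decide +kernel

theorem kerFix : ((List.range 77).all fun p => Nat.beq (rowMul (ptN p) mat212) (ptN p) &&
    Nat.beq (rowMul (ptN p) mat90) (ptN p) &&
    (List.range 12).all fun i => Nat.beq (rowMul (ptN p) (qMat i)) (ptN p)) = true := by decide +kernel

theorem neTests : (!Nat.beq (rowMul probeTest.1 mat90) probeTest.1 &&
    Nat.blt (rowMul probeTest.1 mat90) (2 ^ 112) && Nat.blt probeTest.1 (2 ^ 112) &&
    (!Nat.beq (rowMul probeTest.2 mat212) probeTest.2 &&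
    Nat.blt (rowMul probeTest.2 mat212) (2 ^ 112) && Nat.blt probeTest.2 (2 ^ 112))) = true := by
  decide +kernel

end Cfsg.Agent.Lib.J4Cent18
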