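import Cfsg.Agent.Lib.J4Rep72.Rep

/-!
# Codes of elements of the presented `J₄` by bit matrices, and their action on bit vectors
-/

set_option autoImplicit false

namespace Cfsg.Agent.Lib.J4Cent18

open Cfsg.Agent.Lib.J4Rep72

abbrev JG : Type := Cfsg.Spor.J4

/-- The generators of the presented group. -/
abbrev gx : JG := PresentedGroup.of Cfsg.Spor.J4.Gen.x

abbrev gy : JG := PresentedGroup.of Cfsg.Spor.J4.Gen.y

abbrev gt : JG := PresentedGroup.of Cfsg.Spor.J4.Gen.t

/-- `A` lists the rows of the matrix of `g`. -/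
def Mc (g : JG) (A : List ℕ) : Prop :=
  A.length = 112 ∧ toMat A = (rep g : Matrix (Fin 112) (Fin 112) (ZMod 2))

theorem Mc.mul {g h : JG} {A B : List ℕ} (hg : Mc g A) (hh : Mc h B) : Mc (g * h) (mulM A B) :=
  ⟨(length_mulM A B).trans hg.1, by rw [toMat_mulM hh.1, hg.2, hh.2, map_mul, Units.val_mul]⟩

theorem Mc.one' : Mc 1 oneM :=
  ⟨by simp [oneM], by rw [toMat_oneM, map_one, Units.val_one]⟩

theorem rep_of (i : Cfsg.Spor.J4.Gen) : rep (PresentedGroup.of i) = unitGen i :=
  PresentedGroup.toGroup.of rels_one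

theorem mc_x : Mc gx matX := ⟨lens.1, by
  show _ = (rep (PresentedGroup.of _) : Matrix (Fin 112) (Fin 112) (ZMod 2))
  rw [rep_of]
  exact (congrArg toMat (if_pos rfl)).symm⟩

theorem mc_y : Mc gy matY := ⟨lens.2.1, by
  show _ = (rep (PresentedGroup.of _) : Matrix (Fin 112) (Fin 112) (ZMod 2))
  rw [rep_of]
  exact (congrArg toMat (by simp [matLet])).symm⟩

theorem mc_t : Mc gt matT := ⟨lens.2.2, by
  show _ = (rep (PresentedGroup.of _) : Matrix (Fin 112) (Fin 112) (ZMod 2))
  rw [rep_of]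
  exact (congrArg toMat (by simp [matLet])).symm⟩

/-- Equality of lists of numbers, forcing evaluation. -/
noncomputable def eqL (A : List ℕ) : List ℕ → Bool :=
  List.rec (motive := fun _ => List ℕ → Bool)
    (fun L => List.rec (motive := fun _ => Bool) true (fun _ _ _ => false) L)
    (fun a _ ih L => List.rec (motive := fun _ => Bool) false (fun b bs _ => Nat.beq a b && ih bs) L) A

theorem eqL_eq : ∀ {A B : List ℕ}, eqL A B = true → A = B
  | [], [], _ => rfl
  | [], b :: B, h => by simp [eqL] at h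
  | a :: A, [], h => by simp [eqL] at h
  | a :: A, b :: B, h => by
    simp only [eqL, Bool.and_eq_true] at h
    rw [Nat.eq_of_beq_eq_true h.1, eqL_eq (A := A) (B := B) h.2]

theorem Mc.of_eqL {g : JG} {A B : List ℕ} (hg : Mc g A) (h : eqL A B = true) : Mc g B :=
  eqL_eq h ▸ hg

/-- Elements with the same matrix are equal, once the representation is faithful. -/
theorem Mc.eq (hinj : Function.Injective rep) {g h : JG} {A B : List ℕ} (hg : Mc g A) (hh : Mc h B)
    (e : eqL A B = true) : g = h :=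
  hinj (Units.ext (hg.2.symm.trans ((congrArg toMat (eqL_eq e)).trans hh.2)))

theorem rep_injective (hs : IsSimpleGroup JG) : Function.Injective rep := by
  rw [← MonoidHom.ker_eq_bot_iff]
  refine (hs.eq_bot_or_eq_top_of_normal _ (MonoidHom.normal_ker rep)).resolve_right fun h => ?_
  have h1 : rep gx = 1 := MonoidHom.mem_ker.1 (h ▸ Subgroup.mem_top _)
  have h2 : toMat matX = 1 := by rw [mc_x.2, h1, Units.val_one]
  have h3 := congrFun (congrFun h2 ⟨0, by omega⟩) ⟨1, by omega⟩
  rw [Matrix.one_apply_ne (by simp [Fin.ext_iff])] at h3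
  revert h3
  unfold toMat
  decide +kernel

/-- The vector with packed coordinates `a`. -/
def vecOf (a : ℕ) : Fin 112 → ZMod 2 := fun j => bitZ (a.testBit j.val)

theorem vecOf_rowMul {g : JG} {A : List ℕ} (hg : Mc g A) (a : ℕ) :
    vecOf (rowMul a A) = Matrix.vecMul (vecOf a) (rep g : Matrix (Fin 112) (Fin 112) (ZMod 2)) := by
  funext j
  show bitZ ((rowMul a A).testBit j.val) = _
  rw [testBit_rowMul, hg.1, ← hg.2, ← Fin.sum_univ_eq_sum_range
    (fun k => bitZ (a.testBit k) * bitZ ((A.getD k 0).testBit j.val))]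
  rfl

/-- The right action on vectors. -/
noncomputable def vmul (v : Fin 112 → ZMod 2) (g : JG) : Fin 112 → ZMod 2 :=
  Matrix.vecMul v (rep g : Matrix (Fin 112) (Fin 112) (ZMod 2))

theorem vmul_one (v : Fin 112 → ZMod 2) : vmul v 1 = v := by
  rw [vmul, map_one, Units.val_one, Matrix.vecMul_one]

theorem vmul_mul (v : Fin 112 → ZMod 2) (g h : JG) : vmul v (g * h) = vmul (vmul v g) h := by
  rw [vmul, vmul, vmul, map_mul, Units.val_mul, Matrix.vecMul_vecMul]

theorem vmul_code {g : JG} {A : List ℕ} (hg : Mc g A) {a b : ℕ} (h : Nat.beq (rowMul a A) b = true) :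
    vmul (vecOf a) g = vecOf b := by
  rw [vmul, ← vecOf_rowMul hg, Nat.eq_of_beq_eq_true h]

theorem vecOf_inj {a b : ℕ} (ha : a < 2 ^ 112) (hb : b < 2 ^ 112) (h : vecOf a = vecOf b) : a = b := by
  apply Nat.eq_of_testBit_eq
  intro i
  rcases Nat.lt_or_ge i 112 with hi | hi
  · have hj := congrFun h ⟨i, hi⟩
    simp only [vecOf] at hj
    revert hj
    cases a.testBit i <;> cases b.testBit i <;> simp [bitZ]
  · rw [Nat.testBit_eq_false_of_lt (lt_of_lt_of_le ha (Nat.pow_le_pow_right two_pos hi)),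
      Nat.testBit_eq_false_of_lt (lt_of_lt_of_le hb (Nat.pow_le_pow_right two_pos hi))]

end Cfsg.Agent.Lib.J4Cent18
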