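import Mathlib

/-! Generated: vectors for the exclusion of classes. -/

set_option autoImplicit false
set_option maxRecDepth 100000

namespace Cfsg.Agent.Lib.J4Cent18

/-- The vector fixed by the subgroup. -/
def baseVec : ℕ := 0x21400b0b45b16f

/-- A probe vector. -/
def probeVec : ℕ := 0x50340faa2c76a7d5458ed4cf73df

/-- Its images under translations. -/
def probeSet : List ℕ := [0x7ba287e29f60504ce42c0b3,0xd635fba00f2f7f60015558f33cc,0x50340faa2c76a7d5458ed4cf73df,0x5d5757aa04fa79f40094444731cf]

end Cfsg.Agent.Lib.J4Cent18
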