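import Cfsg.Agent.Lib.J4Cent18.Table
import Cfsg.Agent.Lib.J4Cent18.NegData
import Cfsg.Agent.Lib.J4Cent18.OrbitData

/-!
# Which conjugates of the sextet involution are carried to such conjugates by a representative
-/

set_option autoImplicit false
set_option maxRecDepth 100000

namespace Cfsg.Agent.Lib.J4Cent18

open Cfsg.Agent.Lib Cfsg.Agent.Lib.J4Rep72

/-- The image of a packed vector under `ev c`. -/
noncomputable def vecImg (v : ℕ) : ℕ → ℕ → ℕ
  | 0, _ => v
  | k + 1, c => cond (Nat.testBit c k) (rowMul (vecImg v k c) (eMat k)) (vecImg v k c)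

theorem vecImg_spec (v : ℕ) : ∀ k c, vmul (vecOf v) (evBits en k c) = vecOf (vecImg v k c)
  | 0, _ => vmul_one _
  | k + 1, c => by
    show vmul (vecOf v) (evBits en k c * pick en c k) = _
    rw [vmul_mul, vecImg_spec v k c, vecImg, pick]
    cases c.testBit k
    · simpa using vmul_one _
    · simp only [if_true, cond_true]
      rw [vecOf_rowMul (mc_en k)]
      rfl

/-- Membership in a list. -/
noncomputable def memL (a : ℕ) (L : List ℕ) : Bool := L.any fun b => Nat.beq a b

theorem memL_spec {a : ℕ} {L : List ℕ} (h : memL a L = true) : a ∈ L := by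
  obtain ⟨b, hb, e⟩ := List.any_eq_true.1 h
  rwa [Nat.eq_of_beq_eq_true e]

theorem baseFixed : ((List.range 11).all fun i => Nat.beq (rowMul baseVec (eMat i)) baseVec) = true := by
  decide +kernel

theorem probe_closed : ((List.range 11).all fun i =>
    probeSet.all fun a => memL (rowMul a (eMat i)) probeSet) = true := by decide +kernel

theorem probe_mem : memL probeVec probeSet = true := by decide +kernel

theorem vmul_base_ev : ∀ k, k ≤ 11 → ∀ c, vmul (vecOf baseVec) (evBits en k c) = vecOf baseVec
  | 0, _, _ => vmul_one _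
  | k + 1, hk, c => by
    show vmul (vecOf baseVec) (evBits en k c * pick en c k) = _
    rw [vmul_mul, vmul_base_ev k (by omega) c, pick]
    split
    · exact vmul_code (mc_en k) (List.all_eq_true.1 baseFixed k (List.mem_range.2 (by omega)))
    · exact vmul_one _

theorem vmul_probe_ev : ∀ k, k ≤ 11 → ∀ c, ∃ a ∈ probeSet,
    vmul (vecOf probeVec) (evBits en k c) = vecOf a
  | 0, _, _ => ⟨probeVec, memL_spec probe_mem, vmul_one _⟩
  | k + 1, hk, c => by
    obtain ⟨a, ha, e⟩ := vmul_probe_ev k (by omega) c
    show ∃ b ∈ probeSet, vmul (vecOf probeVec) (evBits en k c * pick en c k) = _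
    rw [vmul_mul, e, pick]
    split
    · refine ⟨rowMul a (eMat k), memL_spec (List.all_eq_true.1
        (List.all_eq_true.1 probe_closed k (List.mem_range.2 (by omega))) a ha), ?_⟩
      rw [vecOf_rowMul (mc_en k)]
      rfl
    · exact ⟨a, ha, vmul_one _⟩

/-- The test for one coordinate, given the image `a` of the base vector moved on. -/
noncomputable def negTest (good p qw : ℕ) (sw : List ℕ) (c a : ℕ) : Bool :=
  !Nat.testBit orbMask c || (Nat.testBit good c || (!Nat.beq a p ||
    (Nat.blt (vecImg qw 11 c) (2 ^ 112) && !memL (vecImg qw 11 c) sw)))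

/-- The data of one representative. -/
noncomputable def negOK (good p qw : ℕ) (sw L : List ℕ) : Bool :=
  tableOK p L && Nat.blt p (2 ^ 112) && sw.all (fun a => Nat.blt a (2 ^ 112)) &&
    tabAll (negTest good p qw sw) L 0

/-- A representative carries only the listed coordinates to conjugates. -/
theorem good_of_negOK {good p qw : ℕ} {sw L : List ℕ} (h : negOK good p qw sw L = true) {w : JG}
    (hp : vmul (vecOf baseVec) w = vecOf p) (hq : vmul (vecOf probeVec) w = vecOf qw)
    (hs : ∀ a ∈ probeSet, ∃ b ∈ sw, vmul (vecOf a) w = vecOf b) {c d : ℕ} (hc2 : c < 2048)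
    (hc : orbMask.testBit c = true) (he : w * evBits en 11 c * w⁻¹ = evBits en 11 d) :
    good.testBit c = true := by
  simp only [negOK, Bool.and_eq_true] at h
  obtain ⟨⟨⟨htab, hplt⟩, hswlt⟩, hall⟩ := h
  have hlen : L.length = 2048 := by
    simp only [tableOK, Bool.and_eq_true] at htab
    exact Nat.eq_of_beq_eq_true htab.1.1.1
  have ht := tabAll_spec L 0 hall c (by omega)
  rw [Nat.zero_add, negTest, hc] at ht
  simp only [Bool.not_true, Bool.false_or, Bool.or_eq_true, Bool.and_eq_true] at ht
  have hwe : w * evBits en 11 c = evBits en 11 d * w := by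
    rw [← he, inv_mul_cancel_right]
  rcases ht with ht | ht | ⟨hlt, ht⟩
  · exact ht
  · exfalso
    have h1 : vmul (vecOf p) (evBits en 11 c) = vecOf p := by
      rw [← hp, ← vmul_mul, hwe, vmul_mul, vmul_base_ev 11 le_rfl]
    rw [table_spec htab 11 le_rfl c (by norm_num; omega)] at h1
    have e := vecOf_inj (table_lt htab hc2) (Nat.le_of_ble_eq_true hplt) h1
    rw [e, Nat.beq_refl] at ht
    exact Bool.false_ne_true ht
  · exfalso
    obtain ⟨a, ha, ea⟩ := vmul_probe_ev 11 le_rfl d
    obtain ⟨b, hb, eb⟩ := hs a ha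
    have h1 : vecOf (vecImg qw 11 c) = vecOf b := by
      rw [← vecImg_spec, ← hq, ← vmul_mul, hwe, vmul_mul, ea, eb]
    have e := vecOf_inj (Nat.le_of_ble_eq_true hlt)
      (Nat.le_of_ble_eq_true (List.all_eq_true.1 hswlt b hb)) h1
    have : memL (vecImg qw 11 c) sw = true :=
      List.any_eq_true.2 ⟨b, hb, by rw [e, Nat.beq_refl]⟩
    rw [this] at ht
    exact Bool.false_ne_true ht

end Cfsg.Agent.Lib.J4Cent18
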