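import Cfsg.Agent.Lib.J4Cent18.EMem
import Cfsg.Agent.Lib.J4Cent18.EComm
import Cfsg.Agent.Lib.J4Cent18.EConjX
import Cfsg.Agent.Lib.J4Cent18.EConjY
import Cfsg.Agent.Lib.J4Cent18.OrbitData

/-!
# The conjugates of the sextet involution under `2^11:M24`
-/

set_option autoImplicit false
set_option maxRecDepth 100000

namespace Cfsg.Agent.Lib.J4Cent18

open Cfsg.Agent.Lib Cfsg.Agent.Lib.J4Rep72 Subgroup

/-- The involution whose centraliser is studied. -/
def zv : JG := ev 7

/-- A set of coordinates is closed under the two maps. -/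
noncomputable def maskClosed (m : ℕ) : Bool :=
  (List.range 2048).all fun c => !Nat.testBit m c ||
    (Nat.testBit m (linBits linX 11 c) && Nat.testBit m (linBits linY 11 c))

theorem orbMask_closed : maskClosed orbMask = true := by decide +kernel

theorem orbMask_lt : Nat.blt orbMask (2 ^ 2048) = true := by decide +kernel

theorem orbMask_seven : Nat.testBit orbMask 7 = true := by decide +kernel

theorem orbMask_count : ((List.range 2048).filter fun c => Nat.testBit orbMask c).length = 1771 := by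
  decide +kernel

/-- Apply the steps to a set of coordinates; `none` if a step starts outside it. -/
noncomputable def replay : List (ℕ × ℕ) → ℕ → Option ℕ
  | [], m => some m
  | (c, g) :: l, m =>
    cond (Nat.testBit m c)
      (replay l (m ||| 2 ^ linBits (cond (Nat.beq g 0) linX linY) 11 c)) none

theorem replay_ok : replay orbOps (2 ^ 7) = some orbMask := by decide +kernel

/-- `ev c` is a conjugate of `zv` by an element of `hSub`. -/
def IsConjZ (c : ℕ) : Prop := ∃ h ∈ hSub, ev c = h * zv * h⁻¹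

variable (hinj : Function.Injective rep)
include hinj

theorem ev_conjX (c : ℕ) : gx⁻¹ * ev c * gx = ev (linBits linX 11 c) :=
  evBits_conj (en_sq hinj) (en_comm hinj) (en_conjX hinj) 11 le_rfl c

theorem ev_conjY (c : ℕ) : gy⁻¹ * ev c * gy = ev (linBits linY 11 c) :=
  evBits_conj (en_sq hinj) (en_comm hinj) (en_conjY hinj) 11 le_rfl c

theorem ev_xor (a b : ℕ) : ev (a ^^^ b) = ev a * ev b :=
  evBits_xor (en_sq hinj) (en_comm hinj) 11 le_rfl a b

omit hinj in
theorem ev_mem (c : ℕ) : ev c ∈ hSub := evBits_mem en_mem 11 le_rfl c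

theorem ev_comm (a b : ℕ) : ev a * ev b = ev b * ev a := by
  rw [← ev_xor hinj, Nat.xor_comm, ev_xor hinj]

theorem gu_eq : gu = ev 934 := by
  refine Mc.eq hinj mc26 (mc_evBits 11 934) ?_
  decide +kernel

theorem isConjZ_of_replay : ∀ (l : List (ℕ × ℕ)) (m m' : ℕ),
    (∀ c, m.testBit c = true → IsConjZ c) → replay l m = some m' →
    ∀ c, m'.testBit c = true → IsConjZ c
  | [], m, m', h, e => by
    rw [replay, Option.some.injEq] at e
    exact e ▸ h
  | (a, g) :: l, m, m', h, e => by
    rw [replay] at e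
    cases ha : Nat.testBit m a with
    | false => simp [ha] at e
    | true =>
      simp only [ha, cond_true] at e
      refine isConjZ_of_replay l _ m' (fun c hc => ?_) e
      rw [Nat.testBit_or, Bool.or_eq_true, Nat.testBit_two_pow, decide_eq_true_iff] at hc
      rcases hc with hc | hc
      · exact h c hc
      · obtain ⟨k, hk, e'⟩ := h a ha
        subst hc
        cases Nat.beq g 0
        · refine ⟨gy⁻¹ * k, hSub.mul_mem (hSub.inv_mem gy_mem) hk, ?_⟩
          show ev (linBits linY 11 a) = _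
          rw [← ev_conjY hinj, e']; group
        · refine ⟨gx⁻¹ * k, hSub.mul_mem (hSub.inv_mem gx_mem) hk, ?_⟩
          show ev (linBits linX 11 a) = _
          rw [← ev_conjX hinj, e']; group

theorem isConjZ (c : ℕ) (hc : orbMask.testBit c = true) : IsConjZ c := by
  refine isConjZ_of_replay hinj orbOps (2 ^ 7) orbMask (fun c hc => ?_) replay_ok c hc
  rw [Nat.testBit_two_pow, decide_eq_true_iff] at hc
  subst hc
  exact ⟨1, hSub.one_mem, by simp [zv]⟩

omit hinj in
theorem lt_of_mask {c : ℕ} (hc : orbMask.testBit c = true) : c < 2048 := by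
  by_contra h
  have hlt : orbMask < 2 ^ c := lt_of_lt_of_le (Nat.le_of_ble_eq_true orbMask_lt)
    (Nat.pow_le_pow_right two_pos (Nat.le_of_not_lt h))
  rw [Nat.testBit_eq_false_of_lt hlt] at hc
  exact Bool.false_ne_true hc

omit hinj in
theorem mask_step {c : ℕ} (hc : orbMask.testBit c = true) :
    orbMask.testBit (linBits linX 11 c) = true ∧ orbMask.testBit (linBits linY 11 c) = true := by
  have h := List.all_eq_true.1 orbMask_closed c (List.mem_range.2 (lt_of_mask hc))
  simpa [hc] using h

/-- Conjugates of `zv` under `hSub` have their coordinates in the mask. -/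
theorem exists_coord {h : JG} (hh : h ∈ hSub) :
    ∃ c, orbMask.testBit c = true ∧ h * zv * h⁻¹ = ev c := by
  have hx : gx * gx = 1 := (mc_x.mul mc_x).eq hinj Mc.one' (by decide +kernel)
  have hy : gy * gy * gy = 1 := ((mc_y.mul mc_y).mul mc_y).eq hinj Mc.one' (by decide +kernel)
  suffices key : ∀ c, orbMask.testBit c = true →
      (∃ d, orbMask.testBit d = true ∧ h * ev c * h⁻¹ = ev d) ∧
      (∃ d, orbMask.testBit d = true ∧ h⁻¹ * ev c * h = ev d) from (key 7 orbMask_seven).1
  unfold hSub at hh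
  induction hh using Subgroup.closure_induction with
  | mem g hg =>
    intro c hc
    simp only [Set.mem_insert_iff, Set.mem_singleton_iff] at hg
    obtain ⟨hcx, hcy⟩ := mask_step hc
    rcases hg with rfl | rfl | rfl
    · refine ⟨⟨_, hcx, ?_⟩, ⟨_, hcx, ev_conjX hinj c⟩⟩
      rw [← ev_conjX hinj, inv_eq_of_mul_eq_one_right hx]
    · refine ⟨⟨_, (mask_step hcy).2, ?_⟩, ⟨_, hcy, ev_conjY hinj c⟩⟩
      rw [← ev_conjY hinj, ← ev_conjY hinj]
      have e : gy⁻¹ * gy⁻¹ = gy := by
        rw [← mul_inv_rev, inv_eq_iff_mul_eq_one]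
        exact hy
      calc gy * ev c * gy⁻¹ = gy⁻¹ * gy⁻¹ * ev c * (gy⁻¹ * gy⁻¹)⁻¹ := by rw [e]
        _ = gy⁻¹ * (gy⁻¹ * ev c * gy) * gy := by simp only [mul_inv_rev, inv_inv, mul_assoc]
    · have e : gu * ev c = ev c * gu := by rw [gu_eq hinj]; exact ev_comm hinj 934 c
      refine ⟨⟨c, hc, ?_⟩, ⟨c, hc, ?_⟩⟩
      · rw [e, mul_inv_cancel_right]
      · rw [mul_assoc, ← e, inv_mul_cancel_left]
  | one => exact fun c hc => ⟨⟨c, hc, by simp⟩, ⟨c, hc, by simp⟩⟩
  | mul a b _ _ iha ihb =>
    intro c hc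
    obtain ⟨d, hd, e1⟩ := (ihb c hc).1
    obtain ⟨d', hd', e1'⟩ := (iha d hd).1
    obtain ⟨f, hf, e2⟩ := (iha c hc).2
    obtain ⟨f', hf', e2'⟩ := (ihb f hf).2
    refine ⟨⟨d', hd', ?_⟩, ⟨f', hf', ?_⟩⟩
    · rw [← e1', ← e1]; group
    · rw [← e2', ← e2]; group
  | inv a _ iha =>
    intro c hc
    obtain ⟨⟨d, hd, e1⟩, ⟨f, hf, e2⟩⟩ := iha c hc
    exact ⟨⟨f, hf, by rw [inv_inv]; exact e2⟩, ⟨d, hd, by rw [inv_inv]; exact e1⟩⟩

/-- The index of the centraliser of `zv` in `hSub` is the size of the orbit. -/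
theorem card_hSub_eq (hev : Set.InjOn ev {c | c < 2048}) :
    Nat.card ↥(hSub ⊓ centralizer ({zv} : Set JG)) * 1771 = Nat.card hSub := by
  classical
  set D := hSub ⊓ centralizer ({zv} : Set JG)
  have hDle : D ≤ hSub := inf_le_left
  let S : Set JG := ev '' {c | orbMask.testBit c = true}
  have hS : Nat.card S = 1771 := by
    have hset : {c | orbMask.testBit c = true} =
        ↑(((List.range 2048).filter fun c => Nat.testBit orbMask c).toFinset) := by
      ext c
      simp only [Set.mem_setOf_eq, List.coe_toFinset, List.mem_filter, List.mem_range]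
      exact ⟨fun h => ⟨lt_of_mask h, h⟩, fun h => h.2⟩
    rw [Nat.card_coe_set_eq]
    show (ev '' {c | orbMask.testBit c = true}).ncard = 1771
    have hi : Set.InjOn ev {c | orbMask.testBit c = true} := hev.mono fun c hc => lt_of_mask hc
    rw [Set.ncard_image_of_injOn hi, hset,
      Set.ncard_coe_finset,
      List.toFinset_card_of_nodup (List.nodup_range.filter _), orbMask_count]
  have hker : ∀ a b : hSub, QuotientGroup.leftRel (D.subgroupOf hSub) a b ↔
      (a : JG) * zv * (a : JG)⁻¹ = (b : JG) * zv * (b : JG)⁻¹ := by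
    intro a b
    rw [QuotientGroup.leftRel_apply, mem_subgroupOf]
    have hm : ((a⁻¹ * b : hSub) : JG) ∈ D ↔
        ((a : JG)⁻¹ * b) * zv = zv * ((a : JG)⁻¹ * b) := by
      refine ⟨fun h => ?_, fun h => ⟨(a⁻¹ * b).2, mem_centralizer_singleton_iff.2 ?_⟩⟩
      · have := mem_centralizer_singleton_iff.1 h.2
        first | exact this | exact this.symm
      · first | exact h | exact h.symm
    rw [hm]
    constructor
    · intro h
      calc (a : JG) * zv * (a : JG)⁻¹ = (a : JG) * (zv * ((a : JG)⁻¹ * b)) * (b : JG)⁻¹ := by group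
        _ = _ := by rw [← h]; group
    · intro h
      calc (a : JG)⁻¹ * b * zv = (a : JG)⁻¹ * ((b : JG) * zv * (b : JG)⁻¹) * b := by group
        _ = _ := by rw [← h]; group
  let f : hSub ⧸ D.subgroupOf hSub → S := Quotient.lift
    (fun a : hSub => (⟨(a : JG) * zv * (a : JG)⁻¹, by
      obtain ⟨c, hc, e⟩ := exists_coord hinj a.2
      exact ⟨c, hc, e.symm⟩⟩ : S)) fun a b h => Subtype.ext ((hker a b).1 h)
  have hf : Function.Bijective f := by
    refine ⟨?_, ?_⟩
    · intro x y
      induction x using Quotient.inductionOn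
      induction y using Quotient.inductionOn
      intro h
      exact Quotient.sound ((hker _ _).2 (congrArg Subtype.val h))
    · rintro ⟨_, c, hc, rfl⟩
      obtain ⟨k, hk, e⟩ := isConjZ hinj c hc
      exact ⟨Quotient.mk _ ⟨k, hk⟩, Subtype.ext e.symm⟩
  have hidx : (D.subgroupOf hSub).index = 1771 := by
    rw [Subgroup.index_eq_card, Nat.card_congr (Equiv.ofBijective f hf), hS]
  rw [← Nat.card_congr (subgroupOfEquivOfLe hDle).toEquiv, ← hidx, card_mul_index]

end Cfsg.Agent.Lib.J4Cent18
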