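import Mathlib

/-! Generated: the 77 points and the data of the kernel. -/

set_option autoImplicit false
set_option maxRecDepth 100000

namespace Cfsg.Agent.Lib.J4Cent18

/-- The 77 vectors. -/
def ptList : List ℕ := [0x21400b0b45b16f,0x7d600630ac1cfb801013b4a6dcf3,0x9b892610a43dc584119612b5d80d,0x1f5e00809da58615839f73c9b7,0x903678f40e194a1e85d6354562d8,0x6a7a99fab112b05f5622560ff3fc,0xe6f67e2088bc9ba3540d32257c26,0x2e8e40e1dc43dc55c2e0831b2,0x1da9113fc7a122974de779f,0x9b9490f42abda43fc149a3ce2008,0x61d871fa95b65e7e12bdc084b12c,0xed53bc738246432b3056f6b01a88,0x57321c8776f243205ab4ad0,0xed567ec4a205b1bfd5ce8aa60f44,0x7d6003438dd48cce742aba48274c,0x5c2b72043f2b5a5937753a4a3,0x6a7a9c8990dac711321b58e10843,0x5c7c4018b85fbc1aa79bd5f1c,0xba000e42ab92a3dc1c8b3c6c20d,0xba2e9dab5b7127a16bde9108420,0x61c00473aa66310a75d872729a15,0x1705c5632d48656d25a207ea6a98,0x872bc81e1c814007c71180592379,0x8c8ce3738975a0c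8743f1e1a03fa,0xfa4bca87004630b3a1124ecf73aa,0x1ca72cb998ff77367314e5bf5fd7,0x4a9b0db8b3476107a308c20,0x187453aec3930e754cc6285ca6,0x6a7a9d5301c93b4a6039277aceb3,0x1cbdb00e38212005c3040d9f32c3,0x1f5b73a155d2c871ba919d3208,0xed4e0a970cc62290e08947cbe28d,0xf1ee090e9baf1441d760fe84629b,0x9033bf300f92cfc4047747bd8cab,0x872ce24d32df768fa7ded902b668,0x7d7f5d430d49296921a22e7e5f94,0xfa4ce10ebf0bfa6093ff680f204b,0x1db6e48e80619a90d4ba3e496a,0x9b8bcef4aa20019894c137f858d0,0x872925893354f355267fabfa581b,0xf1f3bb43a5f4feef31a43e8aa7d1,0xfa4923b99f4808f4766714193587,0x873497c40d0f19fbc0bb6bf49d51,0x903157d4018f0bd8812062f00c76,0x8c8bcc5386e3e10e70c949af6d54,0x170002a72cc3e0b7a403751284eb,0x76ddb499b8fe3b327714cc2b6adb,0x72f200f9641e744fd5cf0dfc1,0x1ca0073027b2bde541f9c37f0c36,0x2e93e9f0e3866977e5193f742,0xba0013ebbaad66693eacc5d04fd,0x1a981e1005dc26860b9955505b,0xe6f3b83e1824e222878e3f4654a5,0x76c7282e18206c01c7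04240b07cf,0x902e080e10015224868a895db25e,0xf1f6782e14a4f020861e3d0774ed,0x9b8ce00e34a5bc05c2151fd6f08e,0xf1f1527d3afac6a8e6d1645ce1fc,0x1ca00399976936f077e2b20a3179,0x76c0027d367e5a89a7cb7d5092de,0x72b89bf4dcaf272e62d85e28e,0x7d65c02e3c848201c390b9c5f470,0xed51503e3c800c22831aa288a71a,0xbb8701e34a13207c2940fde128b,0x6a60003e30049022820bb0c16557,0xfa54902e30001e01c281ab8c363d,0x1db24d3e5bea8fa6cfcb4b7425,0x76c006d486a5d19c91d00c25af91,0x1875893fd06f55276eb9b39a56,0x61c005a93b75cd5127fa0de95ce5,0x61c2e83e14a07e03c694264a2787,0x170007d40d0b97f9c03a7bfc7f54,0xe6ee0ba9b76cf4d7336880d3571f,0x8c94972027b633e74178d377ee33,0xe6f155a937f1517066e014e52fc7,0x171f580e1c85ce05c7909051c17c,0x8c89201e3825ae07c3851d97d0c6]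

/-- Steps reaching all points from the first. -/
def ptOps : List (ℕ × ℕ × ℕ) := [(0,2,1),(1,0,2),(1,1,5),(2,1,8),(5,1,33),(5,2,17),(8,1,47),(8,2,26),(33,0,48),(33,1,15),(33,2,36),(17,0,42),(17,1,13),(47,0,73),(47,1,31),(47,2,43),(26,0,16),(48,1,24),(48,2,20),(36,0,32),(36,1,14),(42,1,38),(42,2,66),(13,0,37),(13,1,39),(13,2,4),(73,1,45),(73,2,46),(31,2,27),(43,0,71),(24,1,3),(24,2,49),(20,1,60),(32,1,40),(32,2,10),(14,2,12),(38,0,67),(38,1,68),(38,2,70),(66,0,34),(66,1,57),(37,1,69),(37,2,65),(39,2,41),(4,0,9),(4,1,11),(45,1,6),(46,0,25),(27,1,58),(49,0,50),(49,1,30),(60,0,72),(60,1,35),(60,2,62),(40,2,56),(12,0,28),(67,1,74),(68,2,54),(70,0,51),(57,0,59),(65,1,55),(9,2,29),(6,1,19),(50,1,23),(72,1,21),(72,2,63),(62,0,76),(62,1,64),(28,1,7),(28,2,61),(74,2,53),(19,2,44),(23,2,52),(21,1,18),(7,2,22),(53,0,75)]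

/-- Rows of the commutator form. -/
def formRows : List ℕ := [2048,1024,512,2944,256,1472,32,40,56,12,34,9]

/-- Rows of its inverse. -/
def formInvRows : List ℕ := [2240,1088,704,192,384,64,47,29,16,4,2,1]

/-- Coordinates of the conjugates by the element of order three. -/
def conjCoord : List ℕ := [1,5,6,40,64,8,81,384,128,1536,512,4096,6144]

/-- Words for the generators of the subgroup of index two. -/
def innerWords : List (List ℕ) := [[0,0,0,1,2,1,2,2],[1,2,1,0,2,0,0]]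

end Cfsg.Agent.Lib.J4Cent18
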