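import Cfsg.Agent.Lib.J4Cent18.Orbit
import Cfsg.Agent.Lib.J4Cent18.NegData
import Cfsg.Agent.Lib.J4Cent18.PtData

/-!
# The 77 points of the centraliser
-/

set_option autoImplicit false
set_option maxRecDepth 100000

namespace Cfsg.Agent.Lib.J4Cent18

open Cfsg.Agent.Lib Cfsg.Agent.Lib.J4Rep72 Subgroup

/-- The centraliser. -/
abbrev czv : Subgroup JG := centralizer ({zv} : Set JG)

/-- Point `i` as a number. -/
def ptN (i : ℕ) : ℕ := ptList.getD i 0

/-- Point `i` as a vector. -/
def pt (i : Fin 77) : Fin 112 → ZMod 2 := vecOf (ptN i)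

theorem ptList_zero : Nat.beq (ptN 0) baseVec = true := by decide +kernel

theorem base_gen : (Nat.beq (rowMul baseVec J4Rep72.matX) baseVec &&
    Nat.beq (rowMul baseVec J4Rep72.matY) baseVec && Nat.beq (rowMul baseVec mat26) baseVec) = true := by
  decide +kernel

theorem ptList_ok : ((List.range 77).all fun i => Nat.blt (ptN i) (2 ^ 112) &&
    (List.range i).all fun j => !Nat.beq (ptN i) (ptN j)) = true := by decide +kernel

theorem pt_injective : Function.Injective pt := by
  intro i j h
  have key : ∀ i, i < 77 → ptN i < 2 ^ 112 ∧ ∀ j, j < i → ptN i ≠ ptN j := by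
    intro i hi
    have := List.all_eq_true.1 ptList_ok i (List.mem_range.2 hi)
    simp only [Bool.and_eq_true] at this
    refine ⟨Nat.le_of_ble_eq_true this.1, fun j hj e => ?_⟩
    have h2 := List.all_eq_true.1 this.2 j (List.mem_range.2 hj)
    rw [e, Nat.beq_refl] at h2
    exact Bool.false_ne_true h2
  have e := vecOf_inj (key i i.isLt).1 (key j j.isLt).1 h
  rcases Nat.lt_trichotomy i.val j.val with hlt | heq | hlt
  · exact absurd e.symm ((key j j.isLt).2 i hlt)
  · exact Fin.ext heq
  · exact absurd e ((key i i.isLt).2 j hlt)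

theorem base_fixed {h : JG} (hh : h ∈ hSub) : vmul (vecOf baseVec) h = vecOf baseVec := by
  have hb := base_gen
  simp only [Bool.and_eq_true] at hb
  unfold hSub at hh
  induction hh using Subgroup.closure_induction with
  | mem g hg =>
    simp only [Set.mem_insert_iff, Set.mem_singleton_iff] at hg
    rcases hg with rfl | rfl | rfl
    · exact vmul_code mc_x hb.1.1
    · exact vmul_code mc_y hb.1.2
    · exact vmul_code mc26 hb.2
  | one => exact vmul_one _
  | mul a b _ _ ha hb => rw [vmul_mul, ha, hb]
  | inv a _ ha =>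
    conv_lhs => rw [← ha]
    rw [← vmul_mul, mul_inv_cancel, vmul_one]

/-- Generators of a group acting transitively on the 77 points. -/
def topGen : ℕ → JG
  | 0 => el61
  | 1 => el153
  | _ => el282

/-- Their matrices. -/
def topMat : ℕ → List ℕ
  | 0 => mat61
  | 1 => mat153
  | _ => mat282

theorem mc_top : ∀ i, Mc (topGen i) (topMat i)
  | 0 => mc61
  | 1 => mc153
  | _ + 2 => mc282

/-- Replay of the steps between points. -/
noncomputable def ptReplay : List (ℕ × ℕ × ℕ) → ℕ → Option ℕ
  | [], m => some m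
  | (a, g, b) :: l, m =>
    cond (Nat.testBit m a && Nat.beq (rowMul (ptN a) (topMat g)) (ptN b))
      (ptReplay l (m ||| 2 ^ b)) none

theorem ptReplay_ok : ptReplay ptOps (2 ^ 0) = some (2 ^ 77 - 1) := by decide +kernel

theorem zv_code : eqL (evMat 11 7) mat90 = true := by decide +kernel

theorem topCommute : ((List.range 3).all fun i =>
    eqL (mulM (topMat i) mat90) (mulM mat90 (topMat i))) = true := by decide +kernel

variable (hinj : Function.Injective rep)
include hinj

theorem zv_eq : zv = el90 := (mc_evBits 11 7).eq hinj mc90 zv_code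

theorem mem_czv_of_code {g : JG} {A : List ℕ} (hg : Mc g A)
    (h : eqL (mulM A mat90) (mulM mat90 A) = true) : g ∈ czv := by
  rw [mem_centralizer_singleton_iff, zv_eq hinj]
  first
    | exact (hg.mul mc90).eq hinj (mc90.mul hg) h
    | exact ((hg.mul mc90).eq hinj (mc90.mul hg) h).symm

theorem top_mem (i : ℕ) : topGen i ∈ czv := by
  have key : ∀ j, j < 3 → topGen j ∈ czv := fun j hj =>
    mem_czv_of_code hinj (mc_top j) (List.all_eq_true.1 topCommute j (List.mem_range.2 hj))
  match i with
  | 0 => exact key 0 (by norm_num)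
  | 1 => exact key 1 (by norm_num)
  | n + 2 => exact key 2 (by norm_num)

theorem pt_reached (i : Fin 77) : ∃ c ∈ czv, vmul (vecOf baseVec) c = pt i := by
  have key : ∀ (l : List (ℕ × ℕ × ℕ)) (m m' : ℕ),
      (∀ a, m.testBit a = true → ∃ c ∈ czv, vmul (vecOf baseVec) c = vecOf (ptN a)) →
      ptReplay l m = some m' →
      ∀ a, m'.testBit a = true → ∃ c ∈ czv, vmul (vecOf baseVec) c = vecOf (ptN a) := by
    intro l
    induction l with
    | nil =>
      intro m m' h e
      rw [ptReplay, Option.some.injEq] at e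
      exact e ▸ h
    | cons s l ih =>
      obtain ⟨a, g, b⟩ := s
      intro m m' h e
      rw [ptReplay] at e
      cases hab : (Nat.testBit m a && Nat.beq (rowMul (ptN a) (topMat g)) (ptN b)) with
      | false => simp [hab] at e
      | true =>
        simp only [hab, cond_true] at e
        rw [Bool.and_eq_true] at hab
        refine ih _ m' (fun d hd => ?_) e
        rw [Nat.testBit_or, Bool.or_eq_true, Nat.testBit_two_pow, decide_eq_true_iff] at hd
        rcases hd with hd | rfl
        · exact h d hd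
        · obtain ⟨c, hc, e'⟩ := h a hab.1
          exact ⟨c * topGen g, czv.mul_mem hc (top_mem hinj g),
            by rw [vmul_mul, e']; exact vmul_code (mc_top g) hab.2⟩
  refine key ptOps (2 ^ 0) (2 ^ 77 - 1) (fun a ha => ?_) ptReplay_ok i ?_
  · rw [Nat.testBit_two_pow, decide_eq_true_iff] at ha
    subst ha
    exact ⟨1, czv.one_mem, by rw [vmul_one, Nat.eq_of_beq_eq_true ptList_zero]⟩
  · rw [Nat.testBit_two_pow_sub_one]
    simpa using i.isLt

/-- The orbit of the base vector consists of the 77 points. -/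
theorem pt_closed [Finite JG]
    (hbound : Nat.card czv ≤ 77 * Nat.card ↥(hSub ⊓ czv)) {c : JG} (hc : c ∈ czv) (i : Fin 77) :
    ∃ j, vmul (pt i) c = pt j := by
  classical
  cases nonempty_fintype JG
  obtain ⟨c₀, hc₀, e₀⟩ := pt_reached hinj i
  let f : czv → (Fin 112 → ZMod 2) := fun c => vmul (vecOf baseVec) c
  set T := (Finset.univ : Finset czv).image f with hT
  have hsub : Finset.univ.image pt ⊆ T := by
    intro v hv
    obtain ⟨k, -, rfl⟩ := Finset.mem_image.1 hv
    obtain ⟨d, hd, e⟩ := pt_reached hinj k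
    exact Finset.mem_image.2 ⟨⟨d, hd⟩, Finset.mem_univ _, e⟩
  have hle : T.card ≤ 77 := by
    have hpos : 0 < Nat.card ↥(hSub ⊓ czv) := Nat.card_pos
    refine Nat.le_of_mul_le_mul_right ?_ hpos
    refine le_trans ?_ hbound
    rw [Nat.card_eq_fintype_card (α := czv), ← Finset.card_univ, Finset.card_eq_sum_card_image f,
      ← smul_eq_mul, ← Finset.sum_const]
    refine Finset.sum_le_sum fun v hv => ?_
    obtain ⟨d, -, rfl⟩ := Finset.mem_image.1 hv
    rw [Nat.card_eq_fintype_card, ← Finset.card_univ]
    refine Finset.card_le_card_of_injOn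
      (fun s : ↥(hSub ⊓ czv) => (⟨(s : JG) * d, czv.mul_mem s.2.2 d.2⟩ : czv)) ?_ ?_
    · intro s _
      refine Finset.mem_coe.2 (Finset.mem_filter.2 ⟨Finset.mem_univ _, ?_⟩)
      show vmul _ ((s : JG) * d) = vmul _ (d : JG)
      rw [vmul_mul, base_fixed s.2.1]
    · intro s _ t _ e
      exact Subtype.ext (mul_right_cancel (congrArg Subtype.val e))
  have heq : Finset.univ.image pt = T := Finset.eq_of_subset_of_card_le hsub
    (by rw [Finset.card_image_of_injective _ pt_injective]; simpa using hle)
  have hmem : vmul (pt i) c ∈ T :=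
    Finset.mem_image.2 ⟨⟨c₀ * c, czv.mul_mem hc₀ hc⟩, Finset.mem_univ _, by
      show vmul _ (c₀ * c) = _
      rw [vmul_mul, e₀]⟩
  rw [← heq] at hmem
  obtain ⟨j, -, e⟩ := Finset.mem_image.1 hmem
  exact ⟨j, e.symm⟩

/-- The permutation action on the points, with its values read from the matrices. -/
theorem exists_action [Finite JG] (hbound : Nat.card czv ≤ 77 * Nat.card ↥(hSub ⊓ czv)) :
    ∃ φ : czv →* Equiv.Perm (Fin 77), ∀ (g : czv) (σ : Equiv.Perm (Fin 77)),
      (∀ i, vmul (pt (σ i)) (g : JG) = pt i) → φ g = σ := by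
  choose f hf using fun (c : czv) (i : Fin 77) => pt_closed hinj hbound (c⁻¹).2 i
  have hmul : ∀ (a b : czv) i, f (a * b) i = f a (f b i) := fun a b i => pt_injective (by
    rw [← hf, ← hf, ← hf, ← vmul_mul, mul_inv_rev]; rfl)
  have hone : ∀ i, f 1 i = i := fun i => pt_injective (by rw [← hf, inv_one]; exact vmul_one _)
  let e : czv → Equiv.Perm (Fin 77) := fun c =>
    { toFun := f c, invFun := f c⁻¹
      left_inv := fun i => by rw [← hmul, inv_mul_cancel, hone]
      right_inv := fun i => by rw [← hmul, mul_inv_cancel, hone] }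
  refine ⟨{ toFun := e, map_one' := Equiv.ext hone, map_mul' := fun a b => Equiv.ext (hmul a b) },
    fun g σ h => Equiv.ext fun i => pt_injective ?_⟩
  show pt (f g i) = pt (σ i)
  rw [← hf, Subgroup.coe_inv]
  conv_lhs => rw [← h i]
  rw [← vmul_mul, mul_inv_cancel, vmul_one]

end Cfsg.Agent.Lib.J4Cent18
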