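import Cfsg.Agent.Lib.J4Cent18.Count
import Cfsg.Agent.Lib.J4Cent18.KerCheck
import Cfsg.Agent.Lib.J4Cent18.Assembly
import Cfsg.Agent.Lib.J4Cent18.Cert

/-!
# The structure of the involution centraliser of the presented `J₄`
-/

set_option autoImplicit false
set_option maxRecDepth 100000

namespace Cfsg.Agent.Lib.J4Cent18

open Cfsg.Agent.Lib Cfsg.Agent.Lib.J4Rep72 Subgroup Cfsg.Agent.Lib.Compute

theorem ne_one_of_moved {g : JG} {A : List ℕ} (hg : Mc g A) {v : ℕ}
    (h : (!Nat.beq (rowMul v A) v && Nat.blt (rowMul v A) (2 ^ 112) && Nat.blt v (2 ^ 112)) = true) :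
    g ≠ 1 := by
  intro e
  simp only [Bool.and_eq_true] at h
  have h1 : vecOf (rowMul v A) = vecOf v := by rw [vecOf_rowMul hg, ← vmul, e, vmul_one]
  have h2 := vecOf_inj (Nat.le_of_ble_eq_true h.1.2) (Nat.le_of_ble_eq_true h.2) h1
  have h3 := h.1.1
  rw [h2, Nat.beq_refl] at h3
  exact Bool.false_ne_true h3

theorem zmod_ite (b : Bool) : (if b then (1 : ZMod 2) else 0) = 0 ↔ b = false := by
  cases b <;> simp

/-- The coding of the permutations of the 77 points. -/
noncomputable abbrev coding77 : Coding (Equiv.Perm (Fin 77)) (permOps 8 77) :=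
  permCoding 8 (Equiv.refl (Fin 77)) (by norm_num)

theorem outer_perm_check : (outerGens.all fun p => permCheck 8 77 p.1 p.2 &&
    Nat.beq (packP 8 (getP 8 p.1) 77) p.1 && Nat.beq (packP 8 (getP 8 p.2) 77) p.2) = true := by
  decide +kernel

theorem outer_moves : ((List.range 3).all fun g => (List.range 77).all fun i =>
    Nat.beq (rowMul (ptN (getP 8 (outerGens.getD g (0, 0)).1 i)) (topMat g)) (ptN i)) = true := by
  decide +kernel

theorem inner_check : (innerGens.all fun p => pairCheck 8 77 outerChain p) = true := by decide +kernel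

theorem outer_len : outerGens.length = 3 := by decide +kernel

theorem gens_ok (hinj : Function.Injective rep) (hzo : orderOf zv = 2) (hzC : zv ∈ czv)
    (hqC : ∀ i : Fin 12, qEl i ∈ czv) :
    Gens (⟨zv, hzC⟩ : czv) (fun i => (⟨qEl i, hqC i⟩ : czv)) formB formBinv := by
  have hz2 : zv * zv = 1 := by rw [← pow_two, ← hzo, pow_orderOf_eq_one]
  refine ⟨?_, fun i => ?_, fun i => ?_, fun i j => ?_, form_inverse⟩
  · rw [← Subgroup.orderOf_coe]; exact hzo
  · exact Subtype.ext (mem_centralizer_singleton_iff.1 (hqC i))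
  · have h := List.all_eq_true.1 qSquare i (List.mem_range.2 i.isLt)
    rw [Bool.or_eq_true] at h
    rcases h with h | h
    · exact Or.inl (Subtype.ext (((mc_q i).mul (mc_q i)).eq hinj Mc.one' h))
    · refine Or.inr (Subtype.ext ?_)
      show qEl i * qEl i = zv
      rw [zv_eq hinj]
      exact ((mc_q i).mul (mc_q i)).eq hinj mc90 h
  · apply Subtype.ext
    have key : ∀ a b, a < 12 → b < a →
        (formRows.getD a 0).testBit b = (formRows.getD b 0).testBit a ∧
        qEl a * qEl b = (if (formRows.getD a 0).testBit b then zv else 1) * (qEl b * qEl a) := by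
      intro a b ha hb
      have h := List.all_eq_true.1 (List.all_eq_true.1 qForm a (List.mem_range.2 ha)) b
        (List.mem_range.2 hb)
      cases hab : (formRows.getD a 0).testBit b with
      | false =>
        rw [show Nat.testBit (formRows.getD a 0) b = false from hab, cond_false, Bool.and_eq_true,
          Bool.not_eq_true'] at h
        refine ⟨h.1.symm, ?_⟩
        rw [if_neg (by simp), one_mul]
        exact ((mc_q a).mul (mc_q b)).eq hinj ((mc_q b).mul (mc_q a)) h.2
      | true =>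
        rw [show Nat.testBit (formRows.getD a 0) b = true from hab, cond_true, Bool.and_eq_true] at h
        refine ⟨h.1.symm, ?_⟩
        rw [if_pos rfl, zv_eq hinj]
        exact ((mc_q a).mul (mc_q b)).eq hinj (mc90.mul ((mc_q b).mul (mc_q a))) h.2
    have main : qEl i * qEl j =
        (if (formRows.getD i.val 0).testBit j.val then zv else 1) * (qEl j * qEl i) := by
      rcases Nat.lt_trichotomy i.val j.val with h | h | h
      · obtain ⟨e1, e2⟩ := key j i j.isLt h
        rw [← e1, e2]
        cases (formRows.getD j.val 0).testBit i.val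
        · simp
        · simp [← mul_assoc, hz2]
      · have hd := List.all_eq_true.1 qDiag i (List.mem_range.2 i.isLt)
        rw [Bool.not_eq_true'] at hd
        obtain rfl : i = j := Fin.ext h
        rw [hd]
        simp
      · exact (key i j i.isLt h).2
    show qEl i * qEl j = _
    rw [main]
    by_cases hb : (formRows.getD i.val 0).testBit j.val = true
    · rw [if_pos hb, if_neg (show ¬formB i j = 0 by unfold formB; rw [if_pos hb]; exact one_ne_zero)]
      rfl
    · rw [if_neg hb, if_pos (show formB i j = 0 by unfold formB; rw [if_neg hb])]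
      simp

theorem conj_coord (hinj : Function.Injective rep) (i : ℕ) (hi : i < 13) :
    aThree * qz i * aThree⁻¹ = evBits qz 13 (conjCoord.getD i 0) := by
  rw [mul_inv_eq_iff_eq_mul]
  exact (mc212.mul (mc_qz i)).eq hinj ((mc_qzProd 13 _).mul mc212)
    (List.all_eq_true.1 qConj i (List.mem_range.2 hi))

theorem qz_mem_gens (hinj : Function.Injective rep) {hzC : zv ∈ czv} {hqC : ∀ i : Fin 12, qEl i ∈ czv}
    (c : ℕ) : ∃ y ∈ gensGroup (⟨zv, hzC⟩ : czv) (fun i => (⟨qEl i, hqC i⟩ : czv)),
      (y : JG) = evBits qz 13 c := by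
  have hS : evBits qz 13 c ∈
      (gensGroup (⟨zv, hzC⟩ : czv) (fun i => (⟨qEl i, hqC i⟩ : czv))).map czv.subtype := by
    refine evBits_mem (fun i hi => ?_) 13 le_rfl c
    match i, hi with
    | 0, _ => exact ⟨_, subset_closure (Set.mem_insert _ _), zv_eq hinj⟩
    | k + 1, hk =>
      exact ⟨_, subset_closure (Set.mem_insert_of_mem _ ⟨⟨k, by omega⟩, rfl⟩), rfl⟩
  obtain ⟨y, hy, e⟩ := hS
  exact ⟨y, hy, e⟩

theorem pairOK_mem {w n : ℕ} (hw : n ≤ 2 ^ w) {H : Subgroup (Equiv.Perm (Fin n))} {c d : ℕ}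
    (h : permCheck w n c d = true) (hc : packP w (getP w c) n = c) (hd : packP w (getP w d) n = d)
    (hm : permOfCode w (Equiv.refl (Fin n)) c d h ∈ H) :
    PairOK (permCoding w (Equiv.refl (Fin n)) hw) H (c, d) :=
  ⟨_, hm, encP_permOfCode _ h hc, encP_permOfCode_inv _ h hd⟩

theorem permOfCode_apply {w n : ℕ} {c d : ℕ} (h : permCheck w n c d = true) (i : Fin n) :
    ((permOfCode w (Equiv.refl (Fin n)) c d h i : Fin n) : ℕ) = getP w c i := rfl

theorem outer_pairs (hinj : Function.Injective rep) (φ : czv →* Equiv.Perm (Fin 77))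
    (hφ : ∀ (g : czv) (σ : Equiv.Perm (Fin 77)), (∀ i, vmul (pt (σ i)) (g : JG) = pt i) → φ g = σ) :
    ∀ p ∈ outerGens, PairOK coding77 φ.range p := by
  intro p hp
  have h := List.all_eq_true.1 outer_perm_check p hp
  rw [Bool.and_eq_true, Bool.and_eq_true] at h
  refine pairOK_mem (c := p.1) (d := p.2) _ h.1.1 (Nat.eq_of_beq_eq_true h.1.2)
    (Nat.eq_of_beq_eq_true h.2) ?_
  obtain ⟨k, hk', e⟩ := List.getElem_of_mem hp
  rw [outer_len] at hk'
  refine ⟨⟨topGen k, top_mem hinj k⟩, hφ _ _ fun i => ?_⟩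
  have hm := List.all_eq_true.1 (List.all_eq_true.1 outer_moves k (List.mem_range.2 hk')) i
    (List.mem_range.2 i.isLt)
  rw [List.getD_eq_getElem?_getD, List.getElem?_eq_getElem (by rw [outer_len]; exact hk'),
    Option.getD_some, e] at hm
  unfold pt
  rw [permOfCode_apply]
  exact vmul_code (mc_top k) hm

set_option maxHeartbeats 1000000 in
/-- The group statement for the presented `J₄`. -/
theorem structure_of_data (hD : DCData) :
    ∃ (G : Type) (_ : Group G) (_ : Finite G), Cfsg.IsJ4 G ∧ ∃ z : G, orderOf z = 2 ∧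
      ∃ (Q N M : Subgroup (Subgroup.centralizer ({z} : Set G))), Q.Normal ∧ N.Normal ∧ Q ≤ N ∧
        N ≤ M ∧ Nat.card Q = 2 ^ 13 ∧ Cfsg.IsExtraspecial 2 Q ∧ Nat.card N = 3 * 2 ^ 13 ∧
        M.index = 2 ∧ ∃ (_ : (N.subgroupOf M).Normal), Cfsg.IsM22 (M ⧸ N.subgroupOf M) := by
  classical
  haveI := hD.finite
  have hinj := rep_injective hD.simple
  obtain ⟨hHD, hbound⟩ := card_czv_le hinj hD
  have hDc : Nat.card ↥(hSub ⊓ czv) = 283115520 := by
    have h := hD.cardH
    rw [hHD] at h
    show Nat.card ↥(hSub ⊓ centralizer ({zv} : Set JG)) = _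
    omega
  have hC : Nat.card czv ≤ 2 * 443520 * (3 * 2 ^ 13) := by
    refine hbound.trans ?_
    rw [hDc]
    norm_num
  obtain ⟨φ, hφ⟩ := exists_action hinj hbound
  have hz2 : zv * zv = 1 := by
    show ev 7 * ev 7 = 1
    rw [← ev_xor hinj, Nat.xor_self]
    exact evBits_zero 11
  have hne := neTests
  rw [Bool.and_eq_true] at hne
  have hz1 : zv ≠ 1 := by rw [zv_eq hinj]; exact ne_one_of_moved mc90 hne.1
  have hzo : orderOf zv = 2 := orderOf_eq_prime (by rw [pow_two]; exact hz2) hz1
  refine ⟨JG, inferInstance, hD.finite, ⟨hD.simple, hD.card⟩, zv, hzo, ?_⟩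
  -- members of the centraliser
  have hzC : zv ∈ czv := mem_centralizer_singleton_iff.2 rfl
  have hqC : ∀ i : Fin 12, qEl i ∈ czv := fun i => mem_czv_of_code hinj (mc_q i)
    (List.all_eq_true.1 qCommute i (List.mem_range.2 i.isLt))
  have ht3 := threeCube
  rw [Bool.and_eq_true] at ht3
  have haC : aThree ∈ czv := mem_czv_of_code hinj mc212 ht3.2
  have hfix : ∀ {g : JG} {A : List ℕ} (hg : Mc g A) (hgC : g ∈ czv),
      (∀ p, p < 77 → Nat.beq (rowMul (ptN p) A) (ptN p) = true) → (⟨g, hgC⟩ : czv) ∈ φ.ker :=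
    fun hg hgC h => MonoidHom.mem_ker.2 (hφ _ 1 fun i => vmul_code hg (h i i.isLt))
  have hk : ∀ p, p < 77 → Nat.beq (rowMul (ptN p) mat212) (ptN p) = true ∧
      Nat.beq (rowMul (ptN p) mat90) (ptN p) = true ∧
      ∀ i, i < 12 → Nat.beq (rowMul (ptN p) (qMat i)) (ptN p) = true := by
    intro p hp
    have h := List.all_eq_true.1 kerFix p (List.mem_range.2 hp)
    rw [Bool.and_eq_true, Bool.and_eq_true] at h
    exact ⟨h.1.1, h.1.2, fun i hi => List.all_eq_true.1 h.2 i (List.mem_range.2 hi)⟩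
  have hgens := gens_ok hinj hzo hzC hqC
  have hout := outer_pairs hinj φ hφ
  obtain ⟨hgo, hA⟩ := gensOK_of_pairs coding77 hout
  have hAc : Nat.card (genGroup coding77 outerGens) = 887040 := by
    rw [card_genGroup coding77 hgo outerChain_ok, outerChain_size]
  obtain ⟨hgi, hSA⟩ := gensOK_of_pairCheck (Equiv.refl (Fin 77)) (by norm_num) hgo outerChain_ok inner_check
  have hSc : Nat.card (genGroup coding77 innerGens) = 443520 := by
    rw [card_genGroup coding77 hgi innerChain_ok, innerChain_size]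
  have hSs := isSimpleGroup_genGroup coding77 hgi innerChain_ok innerCert_ok
  refine structure_of_action hC φ hA hSA hAc hSc hSs hgens
    (hfix (zv_eq hinj ▸ mc90) hzC fun p hp => (hk p hp).2.1)
    (fun i => hfix (mc_q i) (hqC i) fun p hp => (hk p hp).2.2 i i.isLt)
    (hfix mc212 haC fun p hp => (hk p hp).1) (a := (⟨aThree, haC⟩ : czv)) ?_ ?_ (fun i => ?_) ?_
  · refine Subtype.ext ?_
    show aThree ^ 3 = 1
    rw [pow_succ, pow_two]
    exact ((mc212.mul mc212).mul mc212).eq hinj Mc.one' ht3.1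
  · intro e
    exact ne_one_of_moved mc212 hne.2 (congrArg Subtype.val e)
  · obtain ⟨y, hy, e⟩ := qz_mem_gens hinj (hzC := hzC) (hqC := hqC) (conjCoord.getD (i + 1) 0)
    convert hy using 1
    refine Subtype.ext ?_
    show aThree * qEl i * aThree⁻¹ = _
    rw [e]
    exact conj_coord hinj (i + 1) (by omega)
  · obtain ⟨y, hy, e⟩ := qz_mem_gens hinj (hzC := hzC) (hqC := hqC) (conjCoord.getD 0 0)
    convert hy using 1
    refine Subtype.ext ?_
    show aThree * zv * aThree⁻¹ = _
    rw [e, zv_eq hinj]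
    exact conj_coord hinj 0 (by norm_num)

end Cfsg.Agent.Lib.J4Cent18
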