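import Cfsg.Agent.Lib.J4Cent18.EDef

/-!
# Tables of the images of a vector under the eleven involutions
-/

set_option autoImplicit false

namespace Cfsg.Agent.Lib.J4Cent18

open Cfsg.Agent.Lib Cfsg.Agent.Lib.J4Rep72

theorem evBits_congr {G : Type*} [Group G] {e : ℕ → G} : ∀ (k a b : ℕ),
    (∀ i, i < k → a.testBit i = b.testBit i) → evBits e k a = evBits e k b
  | 0, _, _, _ => rfl
  | k + 1, a, b, h => by
    show evBits e k a * pick e a k = evBits e k b * pick e b k
    rw [evBits_congr k a b fun i hi => h i (by omega), pick, pick, h k (by omega)]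

/-- The second half of the first `2 ^ (k+1)` entries is the image of the first half. -/
noncomputable def stepOK (L : List ℕ) (k : ℕ) : Bool :=
  eqL ((L.drop (2 ^ k)).take (2 ^ k)) ((L.take (2 ^ k)).map fun a => rowMul a (eMat k))

/-- The table of the vector `v`. -/
noncomputable def tableOK (v : ℕ) (L : List ℕ) : Bool :=
  Nat.beq L.length 2048 && Nat.beq (L.getD 0 0) v && (L.all fun a => Nat.blt a (2 ^ 112)) &&
    (List.range 11).all (stepOK L)

theorem table_spec {v : ℕ} {L : List ℕ} (h : tableOK v L = true) :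
    ∀ k, k ≤ 11 → ∀ c, c < 2 ^ k → vmul (vecOf v) (evBits en k c) = vecOf (L.getD c 0) := by
  simp only [tableOK, Bool.and_eq_true] at h
  obtain ⟨⟨⟨hlen, h0⟩, -⟩, hst⟩ := h
  have hlen := Nat.eq_of_beq_eq_true hlen
  intro k
  induction k with
  | zero =>
    intro _ c hc
    obtain rfl : c = 0 := by simpa using hc
    show vmul (vecOf v) 1 = _
    rw [vmul_one, Nat.eq_of_beq_eq_true h0]
  | succ k ih =>
    intro hk c hc
    show vmul (vecOf v) (evBits en k c * pick en c k) = _
    rw [vmul_mul]
    have hpow : 2 ^ (k + 1) ≤ 2048 := le_of_le_of_eq (Nat.pow_le_pow_right two_pos hk) (by norm_num)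
    rw [pow_succ] at hc hpow
    rcases Nat.lt_or_ge c (2 ^ k) with h' | h'
    · rw [ih (by omega) c h', pick, Nat.testBit_eq_false_of_lt h']
      exact vmul_one _
    · obtain ⟨d, rfl⟩ : ∃ d, c = 2 ^ k + d := ⟨c - 2 ^ k, by omega⟩
      have hd : d < 2 ^ k := by omega
      have hb : (2 ^ k + d).testBit k = true := by
        rw [Nat.testBit_two_pow_add_eq, Nat.testBit_eq_false_of_lt hd]; rfl
      rw [evBits_congr (e := en) k (2 ^ k + d) d fun i hi => Nat.testBit_two_pow_add_gt hi d,
        ih (by omega) d hd, pick, hb, if_pos rfl, vmul, ← vecOf_rowMul (mc_en k)]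
      congr 1
      have hs := eqL_eq (List.all_eq_true.1 hst k (List.mem_range.2 (by omega)))
      have e1 := congrArg (fun l : List ℕ => l[d]?) hs
      simp only [List.getElem?_take, if_pos hd, List.getElem?_drop, List.getElem?_map] at e1
      have hd' : d < L.length := by omega
      have hd'' : 2 ^ k + d < L.length := by omega
      rw [List.getElem?_eq_getElem hd', List.getElem?_eq_getElem hd'', Option.map_some,
        Option.some.injEq] at e1
      rw [List.getD_eq_getElem?_getD, List.getD_eq_getElem?_getD, List.getElem?_eq_getElem hd',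
        List.getElem?_eq_getElem hd'', Option.getD_some, Option.getD_some, ← e1]

theorem table_lt {v : ℕ} {L : List ℕ} (h : tableOK v L = true) {c : ℕ} (hc : c < 2048) :
    L.getD c 0 < 2 ^ 112 := by
  simp only [tableOK, Bool.and_eq_true] at h
  obtain ⟨⟨⟨hlen, -⟩, hall⟩, -⟩ := h
  have hlen := Nat.eq_of_beq_eq_true hlen
  rw [List.getD_eq_getElem?_getD, List.getElem?_eq_getElem (by omega), Option.getD_some]
  exact Nat.le_of_ble_eq_true (List.all_eq_true.1 hall _ (List.getElem_mem _))

/-- Index paired with the entry. -/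
noncomputable def tabAll (p : ℕ → ℕ → Bool) : List ℕ → ℕ → Bool
  | [], _ => true
  | a :: l, c => p c a && tabAll p l (c + 1)

theorem tabAll_spec {p : ℕ → ℕ → Bool} : ∀ (L : List ℕ) (s : ℕ), tabAll p L s = true →
    ∀ c, c < L.length → p (s + c) (L.getD c 0) = true
  | [], _, _, c, hc => absurd hc (Nat.not_lt_zero c)
  | a :: l, s, h, c, hc => by
    rw [tabAll, Bool.and_eq_true] at h
    rcases c with _ | c
    · simpa using h.1
    · have := tabAll_spec l (s + 1) h.2 c (by simpa using hc)
      rw [List.getD_cons_succ, show s + (c + 1) = s + 1 + c by omega]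
      exact this

end Cfsg.Agent.Lib.J4Cent18
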